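import Cfsg.Agent.Lib.LieDefect.Criterion
import Cfsg.Agent.Lib.Chev.BorelTits
import Cfsg.Agent.Lib.Chev.ParabolicFStar

/-!
# The exceptional Chevalley groups have centric radicals
-/

set_option autoImplicit false

namespace Cfsg.Agent.Lib.LieDefect

open Cfsg Cfsg.Lie
open Cfsg.Agent.Lib

variable {p : ℕ} [Fact p.Prime] {F : Type} [Field F] [Fintype F] [CharP F p]

theorem centricLocal_chev {D : ChevalleyDatum} {C : Chev.Cert} (hh : Chev.Rooted D C)
    (hc : Chev.chkConn D C = true) : CentricLocal p ↥(D.group F) := by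
  have hp := (Fact.out : p.Prime)
  have hUp : IsPGroup p ↥(D.posUnipotent F) := by
    obtain ⟨k, -, hk⟩ := FiniteField.card F p
    exact IsPGroup.of_card (n := (k : ℕ) * (D.nroots / 2)) (by rw [hh.card_posUnipotent, hk, ← pow_mul])
  intro a ha
  set A := Subgroup.zpowers (a : GL D.Idx F) with hA
  have hao : orderOf (a : GL D.Idx F) = p := by rw [Subgroup.orderOf_coe, ha]
  have hAne : A ≠ ⊥ := fun h => by
    rw [hA, Subgroup.zpowers_eq_bot] at h
    rw [h, orderOf_one] at hao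
    exact hp.ne_one hao.symm
  obtain ⟨g, hg, J, hJ, hne, hN, hAU⟩ := hh.borel_tits p A (Subgroup.zpowers_le.2 a.2)
    (IsPGroup.of_card (n := 1) (by rw [Nat.card_zpowers, hao, pow_one])) hAne
  set U0 := Chev.rootGen D F (Chev.outSet D C J) with hU0
  have hU0le : U0 ≤ D.posUnipotent F := hh.toChecked.rootGen_le_posUnipotent fun r hr => hr.1
  have hcP : ∀ c : ↥(D.group F), c * a = a * c →
      g⁻¹ * (c : GL D.Idx F) * g ∈ D.parabolicSubgroup F (J : Set ℕ) := by
    intro c hca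
    have hca' : Commute (c : GL D.Idx F) a := congrArg Subtype.val hca
    have hcN : (c : GL D.Idx F) ∈ Subgroup.normalizer (A : Set (GL D.Idx F)) := by
      refine Subgroup.mem_normalizer_iff.2 fun x => ⟨fun hx => ?_, fun hx => ?_⟩
      · obtain ⟨i, rfl⟩ := Subgroup.mem_zpowers_iff.1 hx
        rw [(hca'.zpow_right i).eq, mul_inv_cancel_right]
        exact hx
      · obtain ⟨i, hi⟩ := Subgroup.mem_zpowers_iff.1 hx
        refine Subgroup.mem_zpowers_iff.2 ⟨i, ?_⟩
        calc (a : GL D.Idx F) ^ i = (c : GL D.Idx F)⁻¹ * ((a : GL D.Idx F) ^ i) * c := by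
              rw [(hca'.inv_left.zpow_right i).eq, inv_mul_cancel_right]
          _ = x := by rw [hi]; group
    obtain ⟨y, hy, hyc⟩ := hN ⟨hcN, c.2⟩
    convert hy using 1
    rw [← hyc]
    simp [mul_assoc]
  let R : Subgroup ↥(D.group F) := (U0.map (MulAut.conj g).toMonoidHom).subgroupOf (D.group F)
  have hmemR : ∀ x : ↥(D.group F), x ∈ R ↔ g⁻¹ * (x : GL D.Idx F) * g ∈ U0 := fun x => by
    rw [Subgroup.mem_subgroupOf, Subgroup.mem_map]
    constructor
    · rintro ⟨y, hy, e⟩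
      rw [← e]
      simpa [mul_assoc] using hy
    · exact fun hy => ⟨_, hy, by simp [mul_assoc]⟩
  refine ⟨R, ?_, fun c hca => ?_, fun x hxa hxp hxR => ?_⟩
  · exact (((hUp.to_le hU0le).map _)).comap_of_injective _ (Subgroup.subtype_injective _)
  · refine Subgroup.mem_normalizer_iff.2 fun x => ?_
    rw [hmemR, hmemR]
    have := Subgroup.mem_normalizer_iff.1 (hh.parabolic_le_normalizer hJ (hcP c hca)) (g⁻¹ * (x : GL D.Idx F) * g)
    convert this using 2
    simp [mul_assoc]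
  · have h1 : g⁻¹ * (x : GL D.Idx F) * g ∈ D.posUnipotent F := by
      refine hh.centralizer_radical_le_posUnipotent hc hJ hne ⟨hcP x hxa, Subgroup.mem_centralizer_iff.2 fun y hy => ?_⟩
      have hyG : g * y * g⁻¹ ∈ D.group F :=
        mul_mem (mul_mem hg (hh.borel_le_group (Subgroup.mem_sup_left (hU0le hy)))) (inv_mem hg)
      have h2 := congrArg Subtype.val (hxR ⟨_, hyG⟩ ((hmemR _).2 (by simpa [mul_assoc] using hy)))
      simp only [Subgroup.coe_mul] at h2
      calc y * (g⁻¹ * (x : GL D.Idx F) * g) = g⁻¹ * (g * y * g⁻¹ * x) * g := by group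
        _ = g⁻¹ * (x * (g * y * g⁻¹)) * g := by rw [h2]
        _ = g⁻¹ * (x : GL D.Idx F) * g * y := by group
    obtain ⟨n, hn⟩ := hUp ⟨_, h1⟩
    have h3 : (x : GL D.Idx F) ^ p ^ n = 1 := by
      have h4 : (MulAut.conj g⁻¹ (x : GL D.Idx F)) ^ p ^ n = 1 := by
        simpa using congrArg Subtype.val hn
      rw [← map_pow] at h4
      exact (MulEquiv.map_eq_one_iff _).1 h4
    have h5 : orderOf x ∣ p ^ n := orderOf_dvd_of_pow_eq_one (Subtype.ext h3)
    obtain ⟨k, -, hk⟩ := (Nat.dvd_prime_pow hp).1 h5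
    rcases Nat.eq_zero_or_pos k with rfl | hk0
    · rw [pow_zero, orderOf_eq_one_iff] at hk
      rw [hk]
      exact one_mem _
    · exact absurd (hk ▸ dvd_pow_self p hk0.ne') hxp

theorem zeroOrFull_chev {G : Type*} [Group G] [Finite G] {D : ChevalleyDatum}
    (hD : D ∈ [chevG2, chevF4, chevE6, chevE7, chevE8]) (e : G ≃* D.group F) : ZeroOrFull p G := by
  obtain ⟨C, hh, hconn⟩ : ∃ C : Chev.Cert, Chev.Rooted D C ∧ Chev.chkConn D C = true := by
    simp only [List.mem_cons, List.not_mem_nil, or_false] at hD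
    rcases hD with rfl | rfl | rfl | rfl | rfl
    exacts [⟨_, ⟨Chev.checked_G2, Chev.descent_G2⟩, Chev.conn_G2⟩,
      ⟨_, ⟨Chev.checked_F4, Chev.descent_F4⟩, Chev.conn_F4⟩,
      ⟨_, ⟨Chev.checked_E6, Chev.descent_E6⟩, Chev.conn_E6⟩,
      ⟨_, ⟨Chev.checked_E7, Chev.descent_E7⟩, Chev.conn_E7⟩,
      ⟨_, ⟨Chev.checked_E8, Chev.descent_E8⟩, Chev.conn_E8⟩]
  exact zeroOrFull_of_centricLocal ((centricLocal_chev hh hconn).of_equiv e.symm)

end Cfsg.Agent.Lib.LieDefect
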