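import Cfsg.Agent.Lib.LieDefect.FormGeometry
import Cfsg.Agent.Lib.SteinbergBlock.Main
import Cfsg.Agent.Lib.Forms.Unitary
import Cfsg.Agent.Lib.Classical.Symplectic
import Cfsg.Agent.Lib.Classical.UnitaryCentre
import Cfsg.Agent.Lib.Classical.EichlerStandard
import Cfsg.Agent.Lib.Classical.Standard

/-!
# The classical groups have centric radicals
-/

set_option autoImplicit false

namespace Cfsg.Agent.Lib.LieDefect

open Cfsg
open Cfsg.Agent.Lib
open Cfsg.Agent.Lib.Forms (perp IsGoodForm)
open Matrix (mulVec)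
open scoped Matrix

universe u

variable {p : ℕ} [Fact p.Prime]

theorem not_dvd_natCard_of_pow_eq_one {G : Type u} [Group G] [Finite G] (Z : Subgroup G)
    (h : ∀ z ∈ Z, z ^ p = 1 → z = 1) : ¬ p ∣ Nat.card Z := fun hd => by
  obtain ⟨z, hz⟩ := exists_prime_orderOf_dvd_card' p hd
  have h1 : z = 1 := Subtype.ext (h _ z.2 (by
    rw [← hz, ← Subgroup.orderOf_coe, pow_orderOf_eq_one]))
  rw [h1, orderOf_one] at hz
  exact (Fact.out : p.Prime).ne_one hz.symm

theorem zeroOrFull_mod_center {H G : Type*} [Group H] [Finite H] [Group G] [Finite G]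
    (hH : CentricLocal p H) (hc : ¬ p ∣ Nat.card (Subgroup.center H))
    (e : G ≃* H ⧸ Subgroup.center H) : ZeroOrFull p G :=
  zeroOrFull_of_centricLocal ((hH.quotient (Subgroup.center H) le_rfl hc).of_equiv e.symm)

variable {F : Type} [Field F] [Fintype F] [CharP F p]

/-! ### Linear groups -/

theorem centricLocal_SL (n : ℕ) : CentricLocal p (Matrix.SpecialLinearGroup (Fin n) F) := by
  intro a ha
  have ha1 : a ≠ 1 := fun e => by rw [e, orderOf_one] at ha; exact (Fact.out : p.Prime).ne_one ha.symm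
  have hn : 0 < n := by
    rcases Nat.eq_zero_or_pos n with rfl | hn
    · exact absurd (Subsingleton.elim a 1) ha1
    · exact hn
  refine ⟨SteinbergBlock.radicalOf a, SteinbergBlock.isPGroup_radicalOf hn a, fun c hc => ?_,
    fun g hg hgp hgR => ?_⟩
  · refine Subgroup.mem_normalizer_iff.2 fun x => ⟨SteinbergBlock.conj_mem_radicalOf hc, fun hx => ?_⟩
    have := SteinbergBlock.conj_mem_radicalOf ((show Commute c a from hc).inv_left.eq) hx
    simpa [mul_assoc] using this
  · obtain ⟨c, hc⟩ := SteinbergBlock.exists_scalar_of_commute (by rw [← ha, pow_orderOf_eq_one]) ha1 hg hgR hgp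
    refine Subgroup.mem_center_iff.2 fun y => Subtype.ext ?_
    show y.1 * g.1 = g.1 * y.1
    rw [hc, Matrix.mul_smul, Matrix.smul_mul, mul_one, one_mul]

theorem not_dvd_center_SL (n : ℕ) :
    ¬ p ∣ Nat.card (Subgroup.center (Matrix.SpecialLinearGroup (Fin n) F)) := by
  refine not_dvd_natCard_of_pow_eq_one _ fun z hz hzp => Subtype.ext ?_
  obtain ⟨r, -, hr⟩ := Matrix.SpecialLinearGroup.mem_center_iff.1 hz
  have h1 : (Matrix.scalar (Fin n) r) ^ p = 1 := by
    rw [hr]; exact congrArg Subtype.val hzp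
  show z.1 = 1
  rw [← hr]
  rcases Nat.eq_zero_or_pos n with rfl | hn
  · exact Subsingleton.elim _ _
  haveI : Nonempty (Fin n) := ⟨⟨0, hn⟩⟩
  rw [← map_pow, ← map_one (Matrix.scalar (Fin n))] at h1
  have h2 : r ^ p = 1 := Matrix.scalar_inj.1 h1
  rw [← one_pow p] at h2
  rw [frobenius_inj F p h2, map_one]

theorem zeroOrFull_PSL {G : Type*} [Group G] [Finite G] (n : ℕ)
    (e : G ≃* Matrix.ProjectiveSpecialLinearGroup (Fin n) F) : ZeroOrFull p G :=
  zeroOrFull_mod_center (centricLocal_SL n) (not_dvd_center_SL n) e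

/-! ### Symplectic groups -/

theorem centricLocal_Sp (m : ℕ) : CentricLocal p (Matrix.symplecticGroup (Fin m) F) := by
  have hB : (fun u v => Classical.stdSymp (F := F) m u v) = Classical.sympFn m F := by
    funext u v; exact Classical.stdSymp_apply m u v
  let e := (Classical.symplecticGroupEquiv (F := F) m).trans
    (MulEquiv.subgroupCongr (congrArg Classical.biIsoGroup hB.symm))
  refine CentricLocal.of_equiv ?_ e.symm
  set B := Classical.stdSymp (F := F) m with hBdef
  have hs : Classical.IsSympForm B := Classical.isSympForm_std (F := F) m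
  have hA : LinearMap.IsAlt B := hs.alt
  have hnd : LinearMap.Nondegenerate B :=
    ⟨hs.nondeg, fun y hy => hs.nondeg y fun w => by rw [hs.flip, hy, neg_zero]⟩
  have hgood : IsGoodForm (σ := RingHom.id F) B (-1) := IsGoodForm.of_isAlt hA hnd
  have hiso : ∀ (g : Classical.sympIso B) u v, B ((Classical.sympIso B).subtype g u)
      ((Classical.sympIso B).subtype g v) = B u v := fun g => g.2
  refine centricLocal_of_form hgood (Subgroup.subtype_injective _) hiso fun a ha => ?_
  obtain ⟨l, -, hl0, hle, hst⟩ := exists_isotropic_image (Subgroup.subtype_injective _) hiso ha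
  refine ⟨_, fun e0 => hl0 (LinearMap.range_eq_bot.1 e0), ⟨hle, fun w hw u hu => ?_, fun _ => Or.inl fun w hw => ?_⟩, hst⟩
  · have hwu : B w u = 0 := hu w hw
    obtain ⟨g, hg, hgB⟩ := hgood.exists_equiv_of_preserves
      (LinearMap.id + (B w).smulRight u + (B u).smulRight w) (fun x y => by
        simp only [LinearMap.add_apply, LinearMap.id_apply, LinearMap.smulRight_apply, map_add, map_smul,
          LinearMap.smul_apply, smul_eq_mul, hs.alt, hwu, hgood.eq_zero_symm hwu]
        rw [hs.flip x u, hs.flip x w]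
        ring)
    exact ⟨⟨g, hgB⟩, fun v => B u v, fun w' hw' => hgood.eq_zero_symm (hu w' hw'), fun v => hg v⟩
  · obtain ⟨g, hg, hgB⟩ := hgood.exists_equiv_of_preserves
      (LinearMap.id + (B w).smulRight w) (fun x y => by
        simp only [LinearMap.add_apply, LinearMap.id_apply, LinearMap.smulRight_apply, map_add, map_smul,
          LinearMap.smul_apply, smul_eq_mul, hs.alt]
        rw [hs.flip x w]
        ring)
    exact ⟨⟨g, hgB⟩, 1, one_ne_zero, fun v => by rw [one_mul]; exact hg v⟩

theorem not_dvd_center_Sp (m : ℕ) : ¬ p ∣ Nat.card (Subgroup.center (Matrix.symplecticGroup (Fin m) F)) := by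
  refine not_dvd_natCard_of_pow_eq_one _ fun z hz hzp => Subtype.ext ?_
  rcases (Classical.center_symplecticGroup m z).1 hz with h | h
  · exact h
  · have h1 : (z : Matrix (Fin m ⊕ Fin m) (Fin m ⊕ Fin m) F) ^ p = 1 := congrArg Subtype.val hzp
    rcases (Fact.out : p.Prime).eq_two_or_odd' with h2 | h2
    · subst h2
      rw [h]
      ext i j
      show -((1 : Matrix (Fin m ⊕ Fin m) (Fin m ⊕ Fin m) F) i j) = _
      exact CharTwo.neg_eq _
    · rw [h, h2.neg_one_pow] at h1
      exact h.trans h1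

theorem zeroOrFull_PSp {G : Type*} [Group G] [Finite G] (m : ℕ) (e : G ≃* PSp m F) : ZeroOrFull p G :=
  zeroOrFull_mod_center (centricLocal_Sp m) (not_dvd_center_Sp m) e

/-! ### Unitary groups -/

theorem centricLocal_SU {q : ℕ} (hF : Fintype.card F = q ^ 2) (n : ℕ) : CentricLocal p (Cfsg.SU n F q) := by
  let ρ : Cfsg.SU n F q →* ((Fin n → F) ≃ₗ[F] (Fin n → F)) :=
    Matrix.SpecialLinearGroup.toLin'.comp (Cfsg.SU n F q).subtype
  have hρ : ∀ (g : Cfsg.SU n F q) (v : Fin n → F), ρ g v = g.1.1 *ᵥ v := fun g v => rfl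
  have hinj : Function.Injective ρ := fun g g' e => Subtype.ext (Subtype.ext
    (Matrix.ext_iff_mulVec.mpr fun v => by rw [← hρ, ← hρ, e]))
  set B := Forms.hermSesq hF n with hBdef
  have hgood : IsGoodForm B 1 := Forms.hermSesq_goodForm hF
  have hiso : ∀ g u v, B (ρ g u) (ρ g v) = B u v := fun g u v => by
    rw [hBdef, Forms.hermSesq_apply, Forms.hermSesq_apply, hρ, hρ]
    exact g.2 v u
  refine centricLocal_of_form hgood hinj hiso fun a ha => ?_
  obtain ⟨l, -, hl0, hle, hst⟩ := exists_isotropic_image hinj hiso ha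
  refine ⟨_, fun e0 => hl0 (LinearMap.range_eq_bot.1 e0), ⟨hle, fun w hw u hu => ?_, fun _ => Or.inl fun w hw => ?_⟩, hst⟩
  · have hww : Cfsg.hermForm n F q w w = 0 := hle hw w hw
    have huw : Cfsg.hermForm n F q u w = 0 := hu w hw
    have huw' : Cfsg.hermForm n F q (-u) w = 0 := by
      have := map_neg (B w) u
      rw [hBdef, Forms.hermSesq_apply, Forms.hermSesq_apply, huw, neg_zero] at this
      exact this
    obtain ⟨d, hd⟩ := hgood.trace (-u)
    rw [hBdef, Forms.hermSesq_apply, Forms.qPowHom_apply, one_mul] at hd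
    refine ⟨Forms.suMk hF _ (Forms.det_eichlerMatrix hF d hww huw')
      (Forms.eichlerMatrix_preserves hF hww huw' hd), fun x => B (-u) x + d * B w x, fun w' hw' => ?_, fun x => ?_⟩
    · have h1 : B w w' = 0 := hle hw' w hw
      have h2 : B u w' = 0 := hgood.eq_zero_symm (hu w' hw')
      show B (-u) w' + d * B w w' = 0
      rw [map_neg, LinearMap.neg_apply, h2, h1, neg_zero, mul_zero, add_zero]
    · rw [hρ, Forms.suMk_val, Forms.eichlerMatrix_mulVec]
      simp only [hBdef, Forms.hermSesq_apply, smul_neg, sub_neg_eq_add]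
  · have hww : Cfsg.hermForm n F q w w = 0 := hle hw w hw
    obtain ⟨c, hc0, hc⟩ : ∃ c : F, c ≠ 0 ∧ c + c ^ q = 0 := by
      obtain ⟨t, ht⟩ : ∃ t : F, Forms.qPowHom hF t ≠ t := by
        by_contra hcon
        push Not at hcon
        exact Forms.qPowHom_ne_id hF (RingHom.ext hcon)
      refine ⟨t - Forms.qPowHom hF t, sub_ne_zero.2 ht.symm, ?_⟩
      rw [← Forms.qPowHom_apply hF (t - Forms.qPowHom hF t), map_sub, Forms.qPowHom_qPowHom]
      ring
    refine ⟨Forms.suMk hF _ (Forms.det_unitaryTransvection hF c hww)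
      (Forms.unitaryTransvection_preserves hF hww hc), c, hc0, fun x => ?_⟩
    rw [hρ, Forms.suMk_val, Forms.unitaryTransvection_mulVec, hBdef, Forms.hermSesq_apply]

theorem not_dvd_center_SU {q : ℕ} (hF : Fintype.card F = q ^ 2) (n : ℕ) :
    ¬ p ∣ Nat.card (Subgroup.center (Cfsg.SU n F q)) := by
  refine not_dvd_natCard_of_pow_eq_one _ fun z hz hzp => Subtype.ext (Subtype.ext ?_)
  rcases Nat.eq_zero_or_pos n with rfl | hn
  · exact Subsingleton.elim _ _
  have hs := Classical.center_SU_scalar hF z hz ⟨0, hn⟩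
  have h1 : z.1.1 ^ p = 1 := congrArg (fun t : Cfsg.SU n F q => t.1.1) hzp
  rw [hs, Matrix.diagonal_pow, ← Matrix.diagonal_one] at h1
  have h2 := congrFun (Matrix.diagonal_injective h1) ⟨0, hn⟩
  simp only [Pi.pow_apply] at h2
  show z.1.1 = 1
  rw [hs, frobenius_inj F p (show frobenius F p (z.1.1 ⟨0, hn⟩ ⟨0, hn⟩) = frobenius F p 1 by
    rw [map_one, frobenius_def]; exact h2), Matrix.diagonal_one]

theorem zeroOrFull_PSU {G : Type*} [Group G] [Finite G] {q : ℕ} (hF : Fintype.card F = q ^ 2) (n : ℕ)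
    (e : G ≃* PSU n F q) : ZeroOrFull p G :=
  zeroOrFull_mod_center (centricLocal_SU hF n) (not_dvd_center_SU hF n) e

/-! ### Orthogonal groups -/

section orthogonal

open QuadraticMap

variable {V : Type*} [AddCommGroup V] [Module F V] [FiniteDimensional F V] {Q : QuadraticForm F V} {e f : V}

theorem centricLocal_eichlerGroup (h : Classical.IsotropicNondeg Q e f)
    (hpar : (2 : F) = 0 → ∀ g ∈ Classical.eichlerGroup (Classical.hypExt Q),
      Module.finrank F (LinearMap.range (g.toLinearMap - 1)) ≠ 1) :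
    CentricLocal p (Classical.eichlerGroup (Classical.hypExt Q)) := by
  set Qt := Classical.hypExt (Classical.hypExt Q) with hQt
  set B := QuadraticMap.polarBilin Qt with hBdef
  have hn := h.ext.ext.nondeg
  have hnd : LinearMap.Nondegenerate B :=
    ⟨fun z hz => hn z hz, fun z hz => hn z fun w => by rw [polar_comm]; exact hz w⟩
  have hgood : IsGoodForm (σ := RingHom.id F) B 1 := IsGoodForm.of_quadratic hnd
  have hQ : ∀ (g : Classical.eichlerGroup (Classical.hypExt Q)) v, Qt (g.1 v) = Qt v := fun g =>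
    Classical.eichlerGroup_le _ g.2
  have hiso : ∀ (g : Classical.eichlerGroup (Classical.hypExt Q)) u v,
      B ((Classical.eichlerGroup (Classical.hypExt Q)).subtype g u)
        ((Classical.eichlerGroup (Classical.hypExt Q)).subtype g v) = B u v := fun g u v =>
    Classical.isometry_polar (hQ g) u v
  refine centricLocal_of_form hgood (Subgroup.subtype_injective _) hiso fun a ha => ?_
  obtain ⟨l, hl, hl0, hle, hst⟩ := exists_isotropic_image (Subgroup.subtype_injective _) hiso ha
  set N := ((Classical.eichlerGroup (Classical.hypExt Q)).subtype a).toLinearMap - 1 with hN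
  set W1 := LinearMap.range (N ^ l) with hW1
  have hadd : ∀ x ∈ W1, ∀ y ∈ W1, Qt (x + y) = Qt x + Qt y := fun x hx y hy => by
    rw [QuadraticMap.map_add (⇑Qt), show polar Qt x y = 0 from hle hy x hx, add_zero]
  let W : Submodule F (F × F × (F × F × V)) :=
    { carrier := {w | w ∈ W1 ∧ Qt w = 0}
      add_mem' := fun {x y} hx hy => ⟨W1.add_mem hx.1 hy.1, by rw [hadd x hx.1 y hy.1, hx.2, hy.2, add_zero]⟩
      zero_mem' := ⟨W1.zero_mem, QuadraticMap.map_zero _⟩
      smul_mem' := fun c x hx => ⟨W1.smul_mem c hx.1, by rw [QuadraticMap.map_smul, hx.2, smul_zero]⟩ }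
  have hW : ∀ x, x ∈ W ↔ x ∈ W1 ∧ Qt x = 0 := fun x => Iff.rfl
  have hWle : W ≤ perp B W := fun x hx y hy => hle hx.1 y hy.1
  refine ⟨W, ?_, ⟨hWle, fun w hw u hu => ?_, fun hperp => Or.inr ⟨?_, fun w hw u hu => ?_⟩⟩,
    fun c hc w hw => ⟨hst c hc w hw.1, by rw [← hw.2]; exact hQ c w⟩⟩
  · intro hbot
    have hns : ∀ x ∈ W1, Qt x = 0 → x = 0 := fun x hx hx0 => by
      have : x ∈ W := ⟨hx, hx0⟩
      rwa [hbot, Submodule.mem_bot] at this
    obtain ⟨w0, hw0, hw00⟩ := Submodule.exists_mem_ne_zero_of_ne_bot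
      (show W1 ≠ ⊥ from fun e0 => hl0 (LinearMap.range_eq_bot.1 e0))
    by_cases h2 : (2 : F) = 0
    · haveI : CharP F 2 := CharTwo.of_one_ne_zero_of_two_eq_zero one_ne_zero h2
      have hp2 : p = 2 := CharP.eq F ‹CharP F p› ‹CharP F 2›
      have hQ0 : Qt w0 ≠ 0 := fun e0 => hw00 (hns w0 hw0 e0)
      have hl1 : l = 1 := by
        by_contra hne
        refine hl0 (pow_eq_zero_of_le (show 2 ≤ l by omega) ?_)
        have hT : (((Classical.eichlerGroup (Classical.hypExt Q)).subtype a).toLinearMap) ^ 2 = 1 := by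
          have h1 := congrArg (fun t : Classical.eichlerGroup (Classical.hypExt Q) => (t.1).toLinearMap)
            (pow_orderOf_eq_one a)
          rw [ha, hp2, pow_two] at h1
          rw [pow_two]
          exact h1
        haveI : Nontrivial (F × F × (F × F × V)) := inferInstance
        haveI : CharP (Module.End F (F × F × (F × F × V))) 2 :=
          charP_of_injective_algebraMap (FaithfulSMul.algebraMap_injective F _) 2
        haveI : Fact (Nat.Prime 2) := ⟨Nat.prime_two⟩
        rw [hN, sub_pow_char_of_commute 2 (Commute.one_right _), hT, one_pow, sub_self]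
      refine hpar h2 a.1 a.2 ?_
      have hW10 : W1 = Submodule.span F {w0} := by
        refine le_antisymm (fun x hx => ?_) ((Submodule.span_singleton_le_iff_mem _ _).2 hw0)
        obtain ⟨c, hc⟩ := surjective_frobenius F 2 (Qt x / Qt w0)
        rw [frobenius_def] at hc
        have hx0 : Qt (x + c • w0) = 0 := by
          rw [hadd x hx _ (W1.smul_mem c hw0), QuadraticMap.map_smul, smul_eq_mul, ← _root_.sq, hc,
            div_mul_cancel₀ _ hQ0, ← two_mul, h2, zero_mul]
        refine Submodule.mem_span_singleton.2 ⟨-c, ?_⟩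
        rw [neg_smul, eq_comm, eq_neg_iff_add_eq_zero]
        exact hns _ (W1.add_mem hx (W1.smul_mem c hw0)) hx0
      have h3 : LinearMap.range N = Submodule.span F {w0} := by
        rw [← hW10, hW1, hl1, pow_one]
      show Module.finrank F (LinearMap.range N) = 1
      rw [h3, finrank_span_singleton hw00]
    · refine hw00 (hns w0 hw0 ?_)
      have h1 : polar Qt w0 w0 = 0 := hle hw0 w0 hw0
      rw [polar_self, two_nsmul, ← two_mul] at h1
      exact (mul_eq_zero.1 h1).resolve_left h2
  · have huw : polar Qt w (-u) = 0 := by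
      rw [polar_neg_right, show polar Qt w u = 0 from hu w hw, neg_zero]
    have hw0 : Qt w = 0 := hw.2
    refine ⟨⟨Classical.eichlerEquiv Qt w (-u) hw0 huw, Classical.eichlerEquiv_mem_eichler h.ext w (-u) hw0 huw⟩,
      fun x => -(B u x) - Qt u * B w x, fun w' hw' => ?_, fun x => ?_⟩
    · show -(B u w') - Qt u * B w w' = 0
      rw [show B u w' = 0 from hgood.eq_zero_symm (hu w' hw'), show B w w' = 0 from hWle hw' w hw, neg_zero,
        mul_zero, sub_zero]
    · show Classical.eichlerEquiv Qt w (-u) hw0 huw x = _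
      rw [Classical.eichlerEquiv_apply, polar_neg_right, QuadraticMap.map_neg, polar_comm (⇑Qt) x w,
        polar_comm (⇑Qt) x u, hBdef]
      simp only [QuadraticMap.polarBilin_apply_apply]
      module
  · have h1 := hgood.finrank_add_finrank_perp W
    rw [hperp] at h1
    simp only [Module.finrank_prod, Module.finrank_self] at h1
    have : 0 < Module.finrank F V := Module.finrank_pos_iff_exists_ne_zero.2 ⟨e, h.e_ne_zero⟩
    omega
  · have huw : polar Qt w (-u) = 0 := by
      rw [polar_neg_right, show polar Qt w u = 0 from hWle hu w hw, neg_zero]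
    have hw0 : Qt w = 0 := hw.2
    refine ⟨⟨Classical.eichlerEquiv Qt w (-u) hw0 huw, Classical.eichlerEquiv_mem_eichler h.ext w (-u) hw0 huw⟩,
      fun x => ?_⟩
    show Classical.eichlerEquiv Qt w (-u) hw0 huw x = _
    rw [Classical.eichlerEquiv_apply, polar_neg_right, QuadraticMap.map_neg, hu.2, polar_comm (⇑Qt) x w,
      polar_comm (⇑Qt) x u, hBdef]
    simp only [QuadraticMap.polarBilin_apply_apply]
    module

variable {ι : Type} [Fintype ι] [DecidableEq ι] {P : QuadraticForm F (ι → F)}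

theorem centricLocal_Omega (M : Classical.TwoPlaneModel P Q) (h : Classical.IsotropicNondeg Q e f) :
    CentricLocal p (Cfsg.Omega F ⇑P) := by
  refine CentricLocal.of_equiv (centricLocal_eichlerGroup (p := p) h fun h2 g hg hrk => ?_) (M.omegaEquiv h).symm
  haveI : CharP F 2 := CharTwo.of_one_ne_zero_of_two_eq_zero one_ne_zero h2
  have hex : (∃ c : F, c ≠ 0 ∧ c ≠ 1) ∨ Fintype.card ι ≠ 4 := Or.inr (M.card_index h).ne'
  obtain ⟨g', hg'⟩ := (M.omegaEquiv h).surjective ⟨g, hg⟩
  have happ : ∀ v, g (M.toEquiv v) = M.toEquiv (Forms.isoToEquiv (⇑P) g'.1 v) := fun v => by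
    have := M.omegaEquiv_apply h g' v
    rw [hg'] at this
    rw [this, Forms.isoToEquiv_apply]
  have hmap : (LinearMap.range ((Forms.isoToEquiv (⇑P) g'.1).toLinearMap - LinearMap.id)).map
      (M.toEquiv : (ι → F) →ₗ[F] _) = LinearMap.range (g.toLinearMap - 1) := by
    ext y
    simp only [Submodule.mem_map, LinearMap.mem_range, LinearMap.sub_apply, LinearMap.id_apply,
      Module.End.one_apply, LinearEquiv.coe_coe]
    constructor
    · rintro ⟨x, ⟨v, rfl⟩, rfl⟩
      exact ⟨M.toEquiv v, by rw [happ, map_sub]⟩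
    · rintro ⟨z, rfl⟩
      obtain ⟨v, rfl⟩ := M.toEquiv.surjective z
      exact ⟨_, ⟨v, rfl⟩, by rw [happ, map_sub]⟩
  rw [← hmap, LinearEquiv.finrank_map_eq] at hrk
  have hker := ((Forms.isoToEquiv (⇑P) g'.1).toLinearMap - LinearMap.id).finrank_range_add_finrank_ker
  rw [hrk, Module.finrank_fintype_fun_eq_card] at hker
  have hpar : Forms.parityHom (M.nondegenerate h) hex g'.1 = -1 := by
    show Forms.parity g'.1 = -1
    rw [Forms.parity]
    exact Odd.neg_one_pow ⟨Module.finrank F ((Forms.isoToEquiv (⇑P) g'.1).toLinearMap - LinearMap.id).ker, by omega⟩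
  have h1 : Forms.parityHom (M.nondegenerate h) hex g'.1 = 1 :=
    MonoidHom.mem_ker.1 (Abelianization.commutator_subset_ker _ g'.2)
  rw [h1] at hpar
  exact absurd hpar (by decide)

theorem not_dvd_center_Omega (M : Classical.TwoPlaneModel P Q) (h : Classical.IsotropicNondeg Q e f) :
    ¬ p ∣ Nat.card (Subgroup.center (Cfsg.Omega F ⇑P)) := by
  intro hd
  have hp := (Fact.out : p.Prime)
  by_cases hc : (2 : F) = 0 ∨ ¬ ∃ g : Cfsg.isometryGroup F ⇑P, g ∈ Cfsg.Omega F ⇑P ∧
      ((g : Matrix.GeneralLinearGroup ι F) : Matrix ι ι F) = -1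
  · rw [(M.natCard_center h).2 hc] at hd
    exact hp.ne_one (Nat.dvd_one.1 hd)
  · push Not at hc
    rw [(M.natCard_center h).1 hc.1 hc.2] at hd
    have hp2 : p = 2 := (Nat.prime_dvd_prime_iff_eq hp Nat.prime_two).1 hd
    subst hp2
    exact hc.1 CharTwo.two_eq_zero

theorem zeroOrFull_POmega {G : Type*} [Group G] [Finite G] (M : Classical.TwoPlaneModel P Q)
    (h : Classical.IsotropicNondeg Q e f) (φ : G ≃* POmega F ⇑P) : ZeroOrFull p G :=
  zeroOrFull_mod_center (centricLocal_Omega M h) (not_dvd_center_Omega M h) φ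

end orthogonal

theorem zeroOrFull_POmegaOdd {G : Type*} [Group G] [Finite G] {m : ℕ} (hm : 3 ≤ m)
    (hodd : Odd (Fintype.card F)) (φ : G ≃* POmega F (quadFormOdd m F)) : ZeroOrFull p G := by
  obtain ⟨k, rfl⟩ : ∃ k, m = k + 3 := ⟨m - 3, by omega⟩
  rw [← Classical.coe_oddQuadForm] at φ
  exact zeroOrFull_POmega (Classical.oddModel k)
    (Classical.isotropicNondeg_hypTower (Classical.nondeg_sq (Classical.two_ne_zero_of_odd_card hodd)) k) φ

theorem zeroOrFull_POmegaPlus {G : Type*} [Group G] [Finite G] {m : ℕ} (hm : 4 ≤ m)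
    (φ : G ≃* POmega F (quadFormPlus m F)) : ZeroOrFull p G := by
  obtain ⟨k, rfl⟩ : ∃ k, m = k + 3 := ⟨m - 3, by omega⟩
  rw [← Classical.coe_plusForm] at φ
  exact zeroOrFull_POmega (Classical.plusModel k)
    (Classical.isotropicNondeg_hypTower Classical.nondeg_zero_fin k) φ

theorem zeroOrFull_POmegaMinus {G : Type*} [Group G] [Finite G] {m : ℕ} (hm : 4 ≤ m) {a b : F}
    (hab : Classical.BinAniso a b) (φ : G ≃* POmega F (quadFormMinus (m - 1) F a b)) : ZeroOrFull p G := by
  obtain ⟨k, hk⟩ : ∃ k, m - 1 = k + 3 := ⟨m - 4, by omega⟩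
  rw [hk, ← Classical.coe_minusForm] at φ
  exact zeroOrFull_POmega (Classical.minusModel k a b)
    (Classical.isotropicNondeg_hypTower (Classical.nondeg_binQ hab) k) φ

end Cfsg.Agent.Lib.LieDefect
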