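import Mathlib
import Cfsg.Agent.S0956
import Cfsg.Agent.Lib.Blocks.DefectCard
import Cfsg.Agent.Lib.Coprime.Basic

/-!
# Groups in which every block has defect zero or full defect

If for every element `u` of order `p` some `p`-group normalised by the centraliser of `u` is centralised by
no non-central `p'`-element commuting with `u`, then a non-trivial defect group is a Sylow subgroup: by
Green, a defect group is the intersection of a Sylow subgroup with its conjugate by a `p'`-element
centralising it, and Thompson's `P × Q` lemma makes this element central.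
-/

set_option autoImplicit false

namespace Cfsg.Agent.Lib.LieDefect

open Cfsg

universe u v

/-- Every element of order `p` has a `p`-group normalised by its centraliser whose centralisers among the
`p'`-elements commuting with it are central. -/
def CentricLocal (p : ℕ) (G : Type u) [Group G] : Prop :=
  ∀ a : G, orderOf a = p → ∃ R : Subgroup G, IsPGroup p R ∧
    (∀ c : G, c * a = a * c → c ∈ Subgroup.normalizer (R : Set G)) ∧
    ∀ h : G, h * a = a * h → ¬ p ∣ orderOf h → (∀ r ∈ R, h * r = r * h) → h ∈ Subgroup.center G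

/-- The property asked for in the statement. -/
def ZeroOrFull (p : ℕ) (G : Type u) [Group G] [Finite G] : Prop :=
  ∀ (M : Ideal AlgInt), IsPModular p M → ∀ B : Set (IrrCharacter G), IsPBlock M B →
    blockDefect p B = 0 ∨ blockDefect p B = (Nat.card G).factorization p

variable {p : ℕ} [Fact p.Prime] {G : Type u} [Group G]

theorem zeroOrFull_of_centricLocal [Finite G] (h : CentricLocal p G) : ZeroOrFull p G := by
  intro M hM B hB
  have hp := (Fact.out : p.Prime)
  have hMp := Lib.Blocks.isPModular_isPrime hM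
  obtain ⟨D, hD⟩ := Lib.Blocks.exists_isDefectGroup (p := p) hB
  have hDp := Lib.Blocks.isPGroup_of_isDefectGroup hD
  have hcard := Lib.Blocks.card_defectGroup hM hB hD
  rcases Nat.eq_zero_or_pos (blockDefect p B) with h0 | h0
  · exact Or.inl h0
  refine Or.inr ?_
  haveI : Nontrivial ↥D := Finite.one_lt_card_iff_nontrivial.1
    (hcard ▸ Nat.one_lt_pow h0.ne' hp.one_lt)
  haveI := hDp.center_nontrivial
  obtain ⟨k, hk0, hk⟩ := (hDp.to_subgroup (Subgroup.center ↥D)).nontrivial_iff_card.1 inferInstance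
  obtain ⟨a0, ha0⟩ := exists_prime_orderOf_dvd_card' (G := Subgroup.center ↥D) p
    (hk ▸ dvd_pow_self p hk0.ne')
  set a : G := ((a0 : ↥D) : G) with ha
  have hao : orderOf a = p := by rw [ha, Subgroup.orderOf_coe, Subgroup.orderOf_coe, ha0]
  have haD : ∀ d ∈ D, d * a = a * d := fun d hd =>
    congrArg Subtype.val (Subgroup.mem_center_iff.1 a0.2 ⟨d, hd⟩)
  obtain ⟨R, hRp, hRn, hRc⟩ := h a hao
  set Q := R ⊓ Subgroup.centralizer ({a} : Set G)
  have hQn : ∀ c : G, c * a = a * c → c ∈ Subgroup.normalizer (Q : Set G) := by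
    intro c hc
    refine Subgroup.mem_normalizer_iff.2 fun x => ?_
    have hc' : Commute c a := hc
    constructor
    · rintro ⟨hx, hxa⟩
      refine ⟨(Subgroup.mem_normalizer_iff.1 (hRn c hc) x).1 hx, Subgroup.mem_centralizer_singleton_iff.2 ?_⟩
      have hxa' : Commute x a := Subgroup.mem_centralizer_singleton_iff.1 hxa
      exact ((hc'.mul_left hxa').mul_left hc'.inv_left).eq
    · rintro ⟨hx, hxa⟩
      refine ⟨(Subgroup.mem_normalizer_iff.1 (hRn c hc) x).2 hx, Subgroup.mem_centralizer_singleton_iff.2 ?_⟩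
      have hxa' : Commute (c * x * c⁻¹) a := Subgroup.mem_centralizer_singleton_iff.1 hxa
      have := (hc'.inv_left.mul_left hxa').mul_left hc'
      rwa [show c⁻¹ * (c * x * c⁻¹) * c = x by group] at this
  have hDQ : IsPGroup p ↥(D ⊔ Q) :=
    hDp.to_sup_of_normal_right' (hRp.to_le inf_le_left) fun d hd => hQn d (haD d hd)
  obtain ⟨P, hP⟩ := hDQ.exists_le_sylow
  obtain ⟨x, hxreg, ⟨S, hS⟩, hxP⟩ :=
    Cfsg.Agent.S0956.result p M hM B hB D hD P (le_sup_left.trans hP)
  have hxD : ∀ d ∈ D, d * x = x * d := fun d hd => by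
    rw [← hS] at hd
    obtain ⟨s, -, rfl⟩ := hd
    exact Subgroup.mem_centralizer_singleton_iff.1 s.2
  have hxa : x * a = a * x := (hxD a (a0 : ↥D).2).symm
  have hQD : Q ≤ D := by
    intro q hq
    rw [← hxP]
    refine ⟨hP (Subgroup.mem_sup_right hq), x⁻¹ * q * x, hP (Subgroup.mem_sup_right ?_), by simp [mul_assoc]⟩
    have := (Subgroup.mem_normalizer_iff.1 (hQn x⁻¹ ((show Commute x a from hxa).inv_left.eq)) q).1 hq
    rwa [inv_inv] at this
  have hPa : Subgroup.zpowers a ≤ Subgroup.normalizer (R : Set G) :=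
    Subgroup.zpowers_le.2 (hRn a rfl)
  have hxR := Cfsg.Agent.Lib.Coprime.thompson_PxQ (p := p) (P := Subgroup.zpowers a) (Q := Subgroup.zpowers x) (U := R)
    (IsPGroup.of_card (n := 1) (by rw [Nat.card_zpowers, hao, pow_one]))
    (by rw [Nat.card_zpowers]; exact ((hp.coprime_iff_not_dvd).2 hxreg).symm) hRp
    (Subgroup.zpowers_le.2 (Subgroup.mem_centralizer_iff.2 fun y hy => by
      obtain ⟨i, rfl⟩ := Subgroup.mem_zpowers_iff.1 hy
      exact ((show Commute x a from hxa).zpow_left i).eq))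
    hPa (Subgroup.zpowers_le.2 (hRn x hxa)) (by
      rintro q ⟨hq, hqa⟩
      refine Subgroup.mem_centralizer_iff.2 fun y hy => ?_
      obtain ⟨i, rfl⟩ := Subgroup.mem_zpowers_iff.1 hy
      have hqD : q ∈ D := hQD ⟨hq, Subgroup.mem_centralizer_singleton_iff.2
        (Subgroup.mem_centralizer_iff.1 hqa a (Subgroup.mem_zpowers a)).symm⟩
      exact ((show Commute x q from (hxD q hqD).symm).zpow_left i).eq)
  have hxc : x ∈ Subgroup.center G := hRc x hxa hxreg fun r hr =>
    (Subgroup.mem_centralizer_iff.1 (hxR (Subgroup.mem_zpowers x)) r hr).symm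
  have hPD : (P : Subgroup G) = D := by
    rw [← hxP, left_eq_inf]
    intro g hg
    exact ⟨g, hg, by simp [(Subgroup.mem_center_iff.1 hxc g).symm]⟩
  have h1 := P.card_eq_multiplicity
  rw [show Nat.card ↥(P : Subgroup G) = Nat.card ↥D by rw [hPD], hcard] at h1
  exact Nat.pow_right_injective hp.two_le h1

theorem CentricLocal.of_equiv {H : Type v} [Group H] (h : CentricLocal p G) (e : G ≃* H) :
    CentricLocal p H := by
  intro a ha
  obtain ⟨R, hRp, hRn, hRc⟩ := h (e.symm a) (by rw [MulEquiv.orderOf_eq, ha])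
  refine ⟨R.map e.toMonoidHom, hRp.map _, fun c hc => Subgroup.mem_normalizer_iff.2 fun x => ?_, fun g hg hgp hgR => ?_⟩
  · have := Subgroup.mem_normalizer_iff.1 (hRn (e.symm c) (by rw [← map_mul, hc, map_mul])) (e.symm x)
    rw [Subgroup.mem_map_equiv, Subgroup.mem_map_equiv]
    simpa using this
  · have h1 := hRc (e.symm g) (by rw [← map_mul, hg, map_mul]) (by rwa [MulEquiv.orderOf_eq]) fun r hr => by
      apply e.injective
      simpa using hgR (e r) ⟨r, hr, rfl⟩
    refine Subgroup.mem_center_iff.2 fun y => ?_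
    simpa using congrArg e (Subgroup.mem_center_iff.1 h1 (e.symm y))

/-- The property passes to a quotient by a central subgroup of order prime to `p`. -/
theorem CentricLocal.quotient [Finite G] (h : CentricLocal p G) (Z : Subgroup G) [Z.Normal]
    (hZ : Z ≤ Subgroup.center G) (hZp : ¬ p ∣ Nat.card Z) : CentricLocal p (G ⧸ Z) := by
  have hp := (Fact.out : p.Prime)
  have hcop : (Nat.card Z).Coprime p := ((hp.coprime_iff_not_dvd).2 hZp).symm
  have hzero : ∀ z ∈ Z, ∀ n : ℕ, z ^ p ^ n = 1 → z = 1 := fun z hz n hn => by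
    have h1 : orderOf z ∣ p ^ n := orderOf_dvd_of_pow_eq_one hn
    have h2 : orderOf z ∣ Nat.card Z := by
      rw [← Subgroup.orderOf_mk z hz]; exact orderOf_dvd_natCard _
    exact orderOf_eq_one_iff.1 (Nat.eq_one_of_dvd_coprimes (Nat.Coprime.pow_right n hcop) h2 h1)
  have hconj : ∀ (c r : G) (n : ℕ), r ^ p ^ n = 1 →
      (c : G ⧸ Z) * (r : G ⧸ Z) = (r : G ⧸ Z) * (c : G ⧸ Z) → c * r = r * c := by
    intro c r n hr hcr
    rw [← QuotientGroup.mk_mul, ← QuotientGroup.mk_mul, QuotientGroup.eq] at hcr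
    set z := (c * r)⁻¹ * (r * c) with hz
    have hzc : Commute r z := (Subgroup.mem_center_iff.1 (hZ hcr) r)
    have e : c⁻¹ * r * c = r * z := by rw [hz]; group
    have h1 : (c⁻¹ * r * c) ^ p ^ n = z ^ p ^ n := by rw [e, hzc.mul_pow, hr, one_mul]
    rw [show c⁻¹ * r * c = MulAut.conj c⁻¹ r by simp, ← map_pow, hr, map_one] at h1
    have h2 := hzero z hcr n h1.symm
    rw [hz, inv_mul_eq_one] at h2
    exact h2
  intro a ha
  obtain ⟨y, rfl⟩ := QuotientGroup.mk_surjective a
  obtain ⟨k, hk⟩ : ∃ k : ℕ, Nat.card Z * k % p = 1 :=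
    Nat.exists_mul_mod_eq_one_of_coprime hcop hp.one_lt |>.imp fun k hk => hk.2
  set b : G := y ^ (Nat.card Z * k)
  have hb : (b : G ⧸ Z) = (y : G ⧸ Z) := by
    simp only [b, QuotientGroup.mk_pow]
    conv_rhs => rw [← pow_one (y : G ⧸ Z), ← hk, ← ha, pow_mod_orderOf]
  have hypZ : y ^ p ∈ Z := by
    rw [← QuotientGroup.eq_one_iff, QuotientGroup.mk_pow, ← ha, pow_orderOf_eq_one]
  have hbp : b ^ p = 1 := by
    have h1 : (y ^ p) ^ Nat.card Z = 1 := congrArg Subtype.val (pow_card_eq_one' (x := (⟨_, hypZ⟩ : Z)))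
    simp only [b, ← pow_mul]
    rw [show Nat.card Z * k * p = p * Nat.card Z * k by ring, pow_mul, pow_mul, h1, one_pow]
  have hbo : orderOf b = p := by
    refine (Nat.dvd_prime hp).1 (orderOf_dvd_of_pow_eq_one hbp) |>.resolve_left fun h1 => ?_
    rw [orderOf_eq_one_iff] at h1
    rw [← hb, h1, QuotientGroup.mk_one, orderOf_one] at ha
    exact hp.ne_one ha.symm
  obtain ⟨R, hRp, hRn, hRc⟩ := h b hbo
  rw [← hb]
  refine ⟨R.map (QuotientGroup.mk' Z), hRp.map _, fun c hc => ?_, fun g hg hgp hgR => ?_⟩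
  · obtain ⟨c, rfl⟩ := QuotientGroup.mk_surjective c
    exact Subgroup.le_normalizer_map (QuotientGroup.mk' Z)
      ⟨c, hRn c (hconj c b 1 (by rwa [pow_one]) hc), rfl⟩
  · obtain ⟨g, rfl⟩ := QuotientGroup.mk_surjective g
    have hgreg : ¬ p ∣ orderOf g := by
      intro hdvd
      have h1 : g ^ orderOf (g : G ⧸ Z) ∈ Z := by
        rw [← QuotientGroup.eq_one_iff, QuotientGroup.mk_pow, pow_orderOf_eq_one]
      have h2 : orderOf g ∣ orderOf (g : G ⧸ Z) * Nat.card Z := by
        refine orderOf_dvd_of_pow_eq_one ?_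
        rw [pow_mul]
        exact congrArg Subtype.val (pow_card_eq_one' (x := (⟨_, h1⟩ : Z)))
      rcases hp.dvd_mul.1 (hdvd.trans h2) with h3 | h3
      · exact hgp h3
      · exact hZp h3
    have h1 := hRc g (hconj g b 1 (by rwa [pow_one]) hg) hgreg fun r hr => by
      obtain ⟨n, hn⟩ := hRp ⟨r, hr⟩
      exact hconj g r n (congrArg Subtype.val hn) (hgR _ ⟨r, hr, rfl⟩)
    refine Subgroup.mem_center_iff.2 fun w => ?_
    obtain ⟨w, rfl⟩ := QuotientGroup.mk_surjective w
    rw [← QuotientGroup.mk_mul, ← QuotientGroup.mk_mul, Subgroup.mem_center_iff.1 h1 w]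

omit [Fact p.Prime] in
theorem ZeroOrFull.of_subsingleton [Finite G] [Subsingleton G] : ZeroOrFull p G := by
  intro M _ B _
  left
  have h := Nat.card_of_subsingleton (1 : G)
  simp [blockDefect, h]

end Cfsg.Agent.Lib.LieDefect
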