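import Cfsg.Agent.Lib.LieDefect.Criterion
import Cfsg.Agent.Lib.Forms.Basic

/-!
# Centric radicals in isometry groups

For an isometry `a` of order `p` the last non-zero image of `a - 1` is totally isotropic. The subgroup acting
trivially on the flag `W ≤ W^⊥` is a `p`-group, and when it contains enough Eichler transformations a
`p'`-element centralising it is scalar.
-/

set_option autoImplicit false

namespace Cfsg.Agent.Lib.LieDefect

open Cfsg
open Cfsg.Agent.Lib.Forms (perp mem_perp IsGoodForm)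

variable {F : Type*} [Field F] {V : Type*} [AddCommGroup V] [Module F V]

/-- The automorphisms trivial on `W`, `U / W` and `V / U`. -/
def flagFix (W U : Submodule F V) : Subgroup (V ≃ₗ[F] V) where
  carrier := {g | (∀ w ∈ W, g w = w) ∧ (∀ u ∈ U, g u - u ∈ W) ∧ ∀ v, g v - v ∈ U}
  mul_mem' {a b} ha hb := by
    refine ⟨fun w hw => by rw [LinearEquiv.mul_apply, hb.1 w hw, ha.1 w hw], fun u hu => ?_, fun v => ?_⟩
    · have e : (a * b) u - u = a (b u - u) + (a u - u) := by rw [LinearEquiv.mul_apply, map_sub]; abel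
      rw [e, ha.1 _ (hb.2.1 u hu)]
      exact W.add_mem (hb.2.1 u hu) (ha.2.1 u hu)
    · have e : (a * b) v - v = (a (b v) - b v) + (b v - v) := by rw [LinearEquiv.mul_apply]; abel
      rw [e]
      exact U.add_mem (ha.2.2 _) (hb.2.2 v)
  one_mem' := ⟨fun _ _ => rfl, fun u _ => by simp, fun v => by simp⟩
  inv_mem' {a} ha := by
    refine ⟨fun w hw => ?_, fun u hu => ?_, fun v => ?_⟩
    · exact a.symm_apply_eq.2 (ha.1 w hw).symm
    · have e : a⁻¹ u = u - (a u - u) := a.symm_apply_eq.2 (by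
        rw [map_sub, ha.1 _ (ha.2.1 u hu)]; abel)
      rw [e, sub_sub_cancel_left]
      exact W.neg_mem (ha.2.1 u hu)
    · have h1 := U.neg_mem (ha.2.2 (a⁻¹ v))
      rwa [show a (a⁻¹ v) = v from a.apply_symm_apply v, neg_sub] at h1

theorem mem_flagFix {W U : Submodule F V} {g : V ≃ₗ[F] V} :
    g ∈ flagFix W U ↔ (∀ w ∈ W, g w = w) ∧ (∀ u ∈ U, g u - u ∈ W) ∧ ∀ v, g v - v ∈ U := Iff.rfl

/-- A linear map for which every vector of `W` is an eigenvector is scalar on `W`. -/
theorem exists_scalar_on {f : V →ₗ[F] V} {W : Submodule F V} (h : ∀ w ∈ W, ∃ c : F, f w = c • w) :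
    ∃ c : F, ∀ w ∈ W, f w = c • w := by
  by_cases hW : ∃ w0 ∈ W, w0 ≠ 0
  · obtain ⟨w0, hw0, hne⟩ := hW
    obtain ⟨c, hc⟩ := h w0 hw0
    refine ⟨c, fun w hw => ?_⟩
    obtain ⟨d, hd⟩ := h w hw
    obtain ⟨e, he⟩ := h (w + w0) (W.add_mem hw hw0)
    rw [map_add, hd, hc, smul_add] at he
    by_cases hdep : ∃ r : F, w = r • w0
    · obtain ⟨r, rfl⟩ := hdep
      rw [map_smul, hc, smul_comm]
    · have h2 : (d - e) • w = (e - c) • w0 := by
        rw [sub_smul, sub_smul, sub_eq_sub_iff_add_eq_add, he, add_comm]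
      by_cases hde : d - e = 0
      · rw [hde, zero_smul, eq_comm, smul_eq_zero, sub_eq_zero] at h2
        rcases h2 with h2 | h2
        · rw [hd, sub_eq_zero.1 hde, h2]
        · exact absurd h2 hne
      · exact absurd ⟨(d - e)⁻¹ * (e - c), by rw [mul_smul, ← h2, inv_smul_smul₀ hde]⟩ hdep
  · push Not at hW
    exact ⟨1, fun w hw => by simp [hW w hw]⟩

theorem pow_prime_sq_of_nilpotent {p : ℕ} [Fact p.Prime] [CharP F p] [Nontrivial V]
    (X : Module.End F V) (c : F) (h : (X - algebraMap F _ c) ^ 3 = 0) :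
    X ^ p ^ 2 = algebraMap F _ (c ^ p ^ 2) := by
  haveI : CharP (Module.End F V) p :=
    charP_of_injective_algebraMap (FaithfulSMul.algebraMap_injective F (Module.End F V)) p
  have h1 : ((X - algebraMap F _ c) + algebraMap F _ c) ^ p ^ 2 =
      (X - algebraMap F _ c) ^ p ^ 2 + (algebraMap F _ c) ^ p ^ 2 :=
    add_pow_char_pow_of_commute p 2 (Algebra.commutes c _).symm
  have h3 : 3 ≤ p ^ 2 := by
    have := (Fact.out : p.Prime).two_le
    nlinarith
  rwa [sub_add_cancel, pow_eq_zero_of_le h3 h, zero_add, ← map_pow] at h1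

variable {σ : F →+* F} {B : V →ₛₗ[σ] V →ₗ[F] F} {ε : F} [FiniteDimensional F V]
  {G : Type*} [Group G]

theorem exists_pair (h : IsGoodForm B ε) {H : Submodule F V} {x : V} (hx : x ∉ H) :
    ∃ v, (∀ y ∈ H, B y v = 0) ∧ B x v = 1 := by
  obtain ⟨a, -, ha, h1⟩ := h.exists_sep hx
  have hc : B x a ≠ 0 := fun e => by rw [h.eq_zero_symm e] at h1; exact zero_ne_one h1
  exact ⟨(B x a)⁻¹ • a, fun y hy => by simp [ha y hy], by simp [hc]⟩

/-- The elements of `G` needed in the radical attached to `W`. -/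
structure EnoughEichler (ρ : G →* (V ≃ₗ[F] V)) (B : V →ₛₗ[σ] V →ₗ[F] F) (W : Submodule F V) : Prop where
  le : W ≤ perp B W
  elts : ∀ w ∈ W, ∀ u ∈ perp B W, ∃ (g : G) (c : V → F), (∀ w' ∈ W, c w' = 0) ∧
    ∀ v, ρ g v = v + B w v • u + c v • w
  tot : perp B W = W → (∀ w ∈ W, ∃ (g : G) (κ : F), κ ≠ 0 ∧ ∀ v, ρ g v = v + (κ * B w v) • w) ∨
    (3 ≤ Module.finrank F W ∧
      ∀ w ∈ W, ∀ u ∈ W, ∃ g : G, ∀ v, ρ g v = v + B w v • u - B u v • w)

variable {ρ : G →* (V ≃ₗ[F] V)}

theorem scalar_on_flag (h : IsGoodForm B ε) (hiso : ∀ g u v, B (ρ g u) (ρ g v) = B u v)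
    {W : Submodule F V} (hW : W ≠ ⊥) (hE : EnoughEichler ρ B W) {g : G}
    (hgW : ∀ w ∈ W, ρ g w ∈ W) (hgR : ∀ r ∈ (flagFix W (perp B W)).comap ρ, g * r = r * g) :
    ∃ t : F, (∀ w ∈ W, ρ g w = t • w) ∧ (∀ u ∈ perp B W, ρ g u - t • u ∈ W) ∧
      ∀ v, ρ g v - t • v ∈ perp B W := by
  have hinv : ∀ w v, B w (ρ g v) = B ((ρ g).symm w) v := fun w v => by
    conv_lhs => rw [← (ρ g).apply_symm_apply w]
    rw [hiso]
  have hcomm : ∀ r ∈ (flagFix W (perp B W)).comap ρ, ∀ v, ρ g (ρ r v) = ρ r (ρ g v) := fun r hr v => by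
    rw [← LinearEquiv.mul_apply, ← map_mul, hgR r hr, map_mul, LinearEquiv.mul_apply]
  have hmemR : ∀ (r : G) (u w : V) (c : V → F), w ∈ W → u ∈ perp B W → (∀ w' ∈ W, c w' = 0) →
      (∀ v, ρ r v = v + B w v • u + c v • w) → r ∈ (flagFix W (perp B W)).comap ρ := by
    intro r u w c hw hu hc hr
    refine ⟨fun w' hw' => ?_, fun u' hu' => ?_, fun v => ?_⟩
    · rw [hr, hE.le hw' w hw, hc w' hw', zero_smul, zero_smul, add_zero, add_zero]
    · rw [hr, hu' w hw, zero_smul, add_zero, add_sub_cancel_left]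
      exact W.smul_mem _ hw
    · rw [hr, add_assoc, add_sub_cancel_left]
      exact Submodule.add_mem _ ((perp B W).smul_mem _ hu) ((perp B W).smul_mem _ (hE.le hw))
  -- the congruence given by the Eichler elements
  have hmu : ∀ w ∈ W, ∀ u ∈ perp B W, ∀ v,
      B w v • ρ g u - B ((ρ g).symm w) v • u ∈ W := by
    intro w hw u hu v
    obtain ⟨r, c, hc, hr⟩ := hE.elts w hw u hu
    have e := hcomm r (hmemR r u w c hw hu hc hr) v
    rw [hr, hr, map_add, map_add, map_smul, map_smul, hinv, add_assoc, add_assoc, add_right_inj] at e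
    have e2 : B w v • ρ g u - B ((ρ g).symm w) v • u = c (ρ g v) • w - c v • ρ g w := by
      rw [sub_eq_sub_iff_add_eq_add]
      exact e.trans (add_comm _ _)
    rw [e2]
    exact W.sub_mem (W.smul_mem _ hw) (W.smul_mem _ (hgW w hw))
  -- what follows from a scalar `t`
  have hfinish : ∀ t : F, t ≠ 0 → (∀ w ∈ W, ρ g w = t • w) → σ t⁻¹ = t →
      ∃ t : F, (∀ w ∈ W, ρ g w = t • w) ∧ (∀ u ∈ perp B W, ρ g u - t • u ∈ W) ∧
        ∀ v, ρ g v - t • v ∈ perp B W := by
    intro t ht hl hσ
    have hsymm : ∀ w ∈ W, (ρ g).symm w = t⁻¹ • w := fun w hw => (ρ g).symm_apply_eq.2 (by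
      rw [map_smul, hl w hw, inv_smul_smul₀ ht])
    have hB : ∀ w ∈ W, ∀ v, B ((ρ g).symm w) v = t * B w v := fun w hw v => by
      rw [hsymm w hw, LinearMap.map_smulₛₗ, LinearMap.smul_apply, smul_eq_mul, hσ]
    refine ⟨t, hl, fun u hu => ?_, fun v x hx => ?_⟩
    · obtain ⟨w, hw, hw0⟩ := Submodule.exists_mem_ne_zero_of_ne_bot hW
      obtain ⟨v, -, hv⟩ := exists_pair h (show w ∉ (⊥ : Submodule F V) by simpa using hw0)
      have := hmu w hw u hu v
      rwa [hB w hw, hv, mul_one, one_smul] at this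
    · rw [map_sub, map_smul, hinv, hB x hx, smul_eq_mul, sub_self]
  by_cases hUW : perp B W = W
  · rcases hE.tot hUW with hT | ⟨h3, hE2⟩
    · have hTeq : ∀ w ∈ W, ∀ v, B w v • ρ g w = B ((ρ g).symm w) v • w := by
        intro w hw v
        obtain ⟨r, κ, hκ, hr⟩ := hT w hw
        have hrR : r ∈ (flagFix W (perp B W)).comap ρ := hmemR r (κ • w) w 0 hw
          ((perp B W).smul_mem _ (hE.le hw)) (fun _ _ => rfl) (fun v => by
            rw [hr, Pi.zero_apply, zero_smul, add_zero, smul_smul, mul_comm])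
        have e := hcomm r hrR v
        rw [hr, hr, map_add, map_smul, hinv, add_right_inj, mul_smul, mul_smul] at e
        exact smul_right_injective V hκ e
      have hlines : ∀ w ∈ W, ∃ c : F, ((ρ g).toLinearMap) w = c • w := by
        intro w hw
        by_cases hw0 : w = 0
        · exact ⟨0, by simp [hw0]⟩
        obtain ⟨v, -, hv⟩ := exists_pair h (show w ∉ (⊥ : Submodule F V) by simpa using hw0)
        have := hTeq w hw v
        rw [hv, one_smul] at this
        exact ⟨_, this⟩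
      obtain ⟨t, ht⟩ := exists_scalar_on hlines
      obtain ⟨w, hw, hw0⟩ := Submodule.exists_mem_ne_zero_of_ne_bot hW
      have hgw : ρ g w = t • w := ht w hw
      have ht0 : t ≠ 0 := fun e => hw0 ((ρ g).map_eq_zero_iff.1 (by rw [hgw, e, zero_smul]))
      refine hfinish t ht0 ht ?_
      obtain ⟨v, -, hv⟩ := exists_pair h (show w ∉ (⊥ : Submodule F V) by simpa using hw0)
      have := hTeq w hw v
      rw [hv, one_smul, hgw, (ρ g).symm_apply_eq.2 (show w = ρ g (t⁻¹ • w) by
        rw [map_smul, hgw, inv_smul_smul₀ ht0]), LinearMap.map_smulₛₗ, LinearMap.smul_apply, hv,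
        smul_eq_mul, mul_one] at this
      exact (smul_left_injective F hw0 this).symm
    · have hEeq : ∀ w ∈ W, ∀ u ∈ W, ∀ v,
          B w v • ρ g u - B u v • ρ g w = B ((ρ g).symm w) v • u - B ((ρ g).symm u) v • w := by
        intro w hw u hu v
        obtain ⟨r, hr⟩ := hE2 w hw u hu
        have hrR : r ∈ (flagFix W (perp B W)).comap ρ := hmemR r u w (fun x => - B u x) hw
          (hE.le hu) (fun w' hw' => by rw [hE.le hw' u hu, neg_zero]) (fun x => by
            rw [hr, neg_smul, sub_eq_add_neg])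
        have e := hcomm r hrR v
        rw [hr, hr, map_sub, map_add, map_smul, map_smul, hinv, hinv, add_sub_assoc, add_sub_assoc,
          add_right_inj] at e
        exact e
      have hplane : ∀ w ∈ W, ∀ u ∈ W, w ∉ Submodule.span F {u} → u ∉ Submodule.span F {w} →
          ∃ a b : F, ρ g w = a • u + b • w := by
        intro w hw u hu hwu huw
        obtain ⟨v, hv0, hv1⟩ := exists_pair h huw
        have hvw : B w v = 0 := hv0 w (Submodule.mem_span_singleton_self w)
        have := hEeq w hw u hu v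
        rw [hvw, hv1, zero_smul, one_smul, zero_sub, neg_eq_iff_eq_neg] at this
        exact ⟨-(B ((ρ g).symm w) v), B ((ρ g).symm u) v, by rw [this]; module⟩
      have hlines : ∀ w ∈ W, ∃ c : F, ((ρ g).toLinearMap) w = c • w := by
        intro w hw
        by_cases hw0 : w = 0
        · exact ⟨0, by simp [hw0]⟩
        have hr1 : ¬ W ≤ Submodule.span F {w} := fun hle => by
          have := Submodule.finrank_mono hle
          rw [finrank_span_singleton hw0] at this
          omega
        obtain ⟨u, hu, huw⟩ := SetLike.not_le_iff_exists.1 hr1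
        have hr2 : ¬ W ≤ Submodule.span F {w, u} := fun hle => by
          have h1 := Submodule.finrank_mono hle
          have h2 : Module.finrank F (Submodule.span F ({w, u} : Set V)) ≤ 2 := by
            classical
            refine (finrank_span_le_card (R := F) ({w, u} : Set V)).trans ?_
            rw [Set.toFinset_insert, Set.toFinset_singleton]
            exact (Finset.card_insert_le _ _).trans (by simp)
          omega
        obtain ⟨u', hu', hu'wu⟩ := SetLike.not_le_iff_exists.1 hr2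
        have hsw : ∀ x : V, x ∉ Submodule.span F {w} → w ∉ Submodule.span F {x} := by
          intro x hx hm
          obtain ⟨r, hr⟩ := Submodule.mem_span_singleton.1 hm
          have hr0 : r ≠ 0 := fun e => hw0 (by rw [← hr, e, zero_smul])
          exact hx (Submodule.mem_span_singleton.2 ⟨r⁻¹, by rw [← hr, inv_smul_smul₀ hr0]⟩)
        have hu'w : u' ∉ Submodule.span F {w} := fun hm =>
          hu'wu (Submodule.span_mono (by simp) hm)
        obtain ⟨a, b, hab⟩ := hplane w hw u hu (hsw u huw) huw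
        obtain ⟨a', b', hab'⟩ := hplane w hw u' hu' (hsw u' hu'w) hu'w
        have ha' : a' = 0 := by
          by_contra hne
          refine hu'wu ?_
          have e : u' = (a'⁻¹ * (b - b')) • w + (a'⁻¹ * a) • u := by
            rw [mul_smul, mul_smul, ← smul_add, eq_inv_smul_iff₀ hne]
            have e2 := hab.symm.trans hab'
            rw [sub_smul, eq_sub_iff_add_eq.2 e2.symm]
            abel
          rw [e]
          exact Submodule.add_mem _ (Submodule.smul_mem _ _ (Submodule.subset_span (by simp)))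
            (Submodule.smul_mem _ _ (Submodule.subset_span (by simp)))
        exact ⟨b', by rw [LinearEquiv.coe_coe, hab', ha', zero_smul, zero_add]⟩
      obtain ⟨t, ht⟩ := exists_scalar_on hlines
      obtain ⟨w, hw, hw0⟩ := Submodule.exists_mem_ne_zero_of_ne_bot hW
      have hgl : ∀ x ∈ W, ρ g x = t • x := ht
      have ht0 : t ≠ 0 := fun e => hw0 ((ρ g).map_eq_zero_iff.1 (by rw [hgl w hw, e, zero_smul]))
      refine hfinish t ht0 hgl ?_
      have hr1 : ¬ W ≤ Submodule.span F {w} := fun hle => by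
        have := Submodule.finrank_mono hle
        rw [finrank_span_singleton hw0] at this
        omega
      obtain ⟨u, hu, huw⟩ := SetLike.not_le_iff_exists.1 hr1
      obtain ⟨v, hv0, hv1⟩ := exists_pair h huw
      have hvw : B w v = 0 := hv0 w (Submodule.mem_span_singleton_self w)
      have hs : ∀ x ∈ W, (ρ g).symm x = t⁻¹ • x := fun x hx => (ρ g).symm_apply_eq.2 (by
        rw [map_smul, hgl x hx, inv_smul_smul₀ ht0])
      have := hEeq w hw u hu v
      rw [hs w hw, hs u hu, LinearMap.map_smulₛₗ, LinearMap.map_smulₛₗ, LinearMap.smul_apply,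
        LinearMap.smul_apply, hvw, hv1, hgl w hw, smul_eq_mul, smul_eq_mul, mul_zero, mul_one,
        zero_smul, one_smul, zero_smul, zero_sub, zero_sub, neg_inj] at this
      exact (smul_left_injective F hw0 this).symm
  · obtain ⟨u, hu, huW⟩ := SetLike.not_le_iff_exists.1
      (fun hle : perp B W ≤ W => hUW (le_antisymm hle hE.le))
    have hline : ∀ w ∈ W, w ≠ 0 → ∃ μ : F, μ ≠ 0 ∧ (∀ x, B ((ρ g).symm w) x = μ * B w x) := by
      intro w hw hw0
      obtain ⟨v, -, hv⟩ := exists_pair h (show w ∉ (⊥ : Submodule F V) by simpa using hw0)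
      have key : ∀ x, B ((ρ g).symm w) x = B ((ρ g).symm w) v * B w x := by
        intro x
        by_contra hne
        have h1 := hmu w hw u hu v
        rw [hv, one_smul] at h1
        have h2 := W.sub_mem (W.smul_mem (B w x) h1) (hmu w hw u hu x)
        refine huW ((W.smul_mem_iff (sub_ne_zero.2 hne)).1 ?_)
        convert h2 using 1
        module
      refine ⟨B ((ρ g).symm w) v, fun e => hw0 ?_, key⟩
      exact (ρ g).symm.map_eq_zero_iff.1 (h.nondeg _ fun x => by rw [key, e, zero_mul])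
    have hlines : ∀ w ∈ W, ∃ c : F, ((ρ g).toLinearMap) w = c • w := by
      intro w hw
      by_cases hw0 : w = 0
      · exact ⟨0, by simp [hw0]⟩
      obtain ⟨μ, hμ, hμx⟩ := hline w hw hw0
      have hs : (ρ g).symm w = σ μ • w := sub_eq_zero.1 (h.nondeg _ fun x => by
        rw [map_sub, LinearMap.sub_apply, hμx, LinearMap.map_smulₛₗ, LinearMap.smul_apply, h.invol,
          smul_eq_mul, sub_self])
      have hgw := (ρ g).symm_apply_eq.1 hs
      rw [map_smul] at hgw
      exact ⟨(σ μ)⁻¹, (eq_inv_smul_iff₀ (h.sigma_ne_zero hμ)).2 hgw.symm⟩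
    obtain ⟨t, ht⟩ := exists_scalar_on hlines
    have hgl : ∀ x ∈ W, ρ g x = t • x := ht
    obtain ⟨w, hw, hw0⟩ := Submodule.exists_mem_ne_zero_of_ne_bot hW
    have ht0 : t ≠ 0 := fun e => hw0 ((ρ g).map_eq_zero_iff.1 (by rw [hgl w hw, e, zero_smul]))
    refine hfinish t ht0 hgl ?_
    have hmod : ∀ x ∈ perp B W, ρ g x - σ t⁻¹ • x ∈ W := by
      intro x hx
      obtain ⟨v, -, hv⟩ := exists_pair h (show w ∉ (⊥ : Submodule F V) by simpa using hw0)
      have := hmu w hw x hx v
      rwa [(ρ g).symm_apply_eq.2 (show w = ρ g (t⁻¹ • w) by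
        rw [map_smul, hgl w hw, inv_smul_smul₀ ht0]), LinearMap.map_smulₛₗ, LinearMap.smul_apply, hv,
        one_smul, smul_eq_mul, mul_one] at this
    obtain ⟨u1, hu1, u2, hu2, h12⟩ : ∃ u1 ∈ perp B W, ∃ u2 ∈ perp B W, B u1 u2 ≠ 0 := by
      by_contra hcon
      push Not at hcon
      have hle : perp B W ≤ perp B (perp B W) := fun y hy x hx => hcon x hx y hy
      rw [h.perp_perp] at hle
      exact hUW (le_antisymm hle hE.le)
    obtain ⟨w1, hw1, e1⟩ : ∃ w1 ∈ W, ρ g u1 = σ t⁻¹ • u1 + w1 := ⟨_, hmod u1 hu1, by abel⟩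
    obtain ⟨w2, hw2, e2⟩ : ∃ w2 ∈ W, ρ g u2 = σ t⁻¹ • u2 + w2 := ⟨_, hmod u2 hu2, by abel⟩
    have e := hiso g u1 u2
    rw [e1, e2] at e
    simp only [map_add, LinearMap.add_apply, LinearMap.map_smulₛₗ, LinearMap.smul_apply, map_smul,
      hu2 w1 hw1, h.eq_zero_symm (hu1 w2 hw2), hE.le hw2 w1 hw1, smul_eq_mul, mul_zero, add_zero,
      h.invol] at e
    rw [← mul_assoc, mul_eq_right₀ h12] at e
    -- `t⁻¹ * σ t⁻¹ = 1`
    calc σ t⁻¹ = t * (t⁻¹ * σ t⁻¹) := by rw [← mul_assoc, mul_inv_cancel₀ ht0, one_mul]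
      _ = t := by
        have e' : t⁻¹ * σ t⁻¹ = 1 := by first | exact e | (rw [mul_comm]; exact e)
        rw [e', mul_one]

variable {p : ℕ} [Fact p.Prime] [CharP F p]

omit [FiniteDimensional F V] in
/-- The last non-zero image of `a - 1`. -/
theorem exists_isotropic_image (hρ : Function.Injective ρ)
    (hiso : ∀ g u v, B (ρ g u) (ρ g v) = B u v) {a : G} (ha : orderOf a = p) :
    ∃ l : ℕ, 1 ≤ l ∧ (((ρ a).toLinearMap - 1) ^ l) ≠ 0 ∧
      (LinearMap.range (((ρ a).toLinearMap - 1) ^ l) ≤ perp B (LinearMap.range (((ρ a).toLinearMap - 1) ^ l))) ∧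
      ∀ c : G, c * a = a * c → ∀ w ∈ LinearMap.range (((ρ a).toLinearMap - 1) ^ l),
        ρ c w ∈ LinearMap.range (((ρ a).toLinearMap - 1) ^ l) := by
  let T : G →* Module.End F V :=
    { toFun := fun g => (ρ g).toLinearMap
      map_one' := by rw [map_one]; rfl
      map_mul' := fun x y => by rw [map_mul]; rfl }
  have hTi : Function.Injective T := fun x y e => hρ (LinearEquiv.toLinearMap_injective e)
  have ha1 : a ≠ 1 := fun e => by rw [e, orderOf_one] at ha; exact (Fact.out : p.Prime).ne_one ha.symm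
  haveI : Nontrivial V := by
    by_contra hn
    haveI : Subsingleton V := not_nontrivial_iff_subsingleton.1 hn
    exact ha1 (hρ (Subsingleton.elim _ _))
  haveI : CharP (Module.End F V) p :=
    charP_of_injective_algebraMap (FaithfulSMul.algebraMap_injective F (Module.End F V)) p
  set N := T a - 1 with hN
  have hN0 : N ≠ 0 := fun e => ha1 (hTi (by rw [map_one]; exact sub_eq_zero.1 e))
  have hNp : N ^ p = 0 := by
    rw [hN, sub_pow_char_of_commute p (Commute.one_right _), ← map_pow, ← ha, pow_orderOf_eq_one, map_one,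
      one_pow, sub_self]
  classical
  have hex : ∃ m, N ^ m = 0 := ⟨p, hNp⟩
  have h2 : 2 ≤ Nat.find hex := by
    by_contra hlt
    exact hN0 (by simpa using pow_eq_zero_of_le (show Nat.find hex ≤ 1 by omega) (Nat.find_spec hex))
  obtain ⟨l, hl⟩ : ∃ l, Nat.find hex = l + 1 := ⟨Nat.find hex - 1, by omega⟩
  have hl0 : N ^ l ≠ 0 := Nat.find_min hex (by omega)
  have hl1 : N ^ (l + 1) = 0 := hl ▸ Nat.find_spec hex
  refine ⟨l, by omega, hl0, ?_, fun c hc w hw => ?_⟩
  · set M := T a⁻¹ - 1 with hM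
    have hadj : ∀ (j : ℕ) (u x : V), B ((N ^ j) u) x = B u ((M ^ j) x) := by
      intro j
      induction j with
      | zero => simp
      | succ j ih =>
        intro u x
        have hone : ∀ y z, B (N y) z = B y (M z) := fun y z => by
          have h1 := hiso a y (ρ a⁻¹ z)
          rw [← LinearEquiv.mul_apply (ρ a) (ρ a⁻¹), ← map_mul, mul_inv_cancel, map_one] at h1
          simp only [hN, hM, LinearMap.sub_apply, Module.End.one_apply, map_sub, LinearMap.sub_apply]
          exact congrArg (· - B y z) h1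
        rw [pow_succ', Module.End.mul_apply, hone, ih, pow_succ, Module.End.mul_apply]
    have hMN : M = -(T a⁻¹ * N) := by
      rw [hN, hM, mul_sub, mul_one, ← map_mul, inv_mul_cancel, map_one, neg_sub]
    rintro _ ⟨v, rfl⟩ _ ⟨u, rfl⟩
    show B ((N ^ l) u) ((N ^ l) v) = 0
    have hcm : Commute (-T a⁻¹) N :=
      (((Commute.refl a).inv_left.map T).sub_right (Commute.one_right _)).neg_left
    have hz : M ^ l * N ^ l = 0 := by
      rw [hMN, ← neg_mul, hcm.mul_pow, mul_assoc, ← pow_add, pow_eq_zero_of_le (show l + 1 ≤ l + l by omega) hl1,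
        mul_zero]
    rw [hadj, ← Module.End.mul_apply, hz, LinearMap.zero_apply, map_zero]
  · obtain ⟨v, rfl⟩ := hw
    refine ⟨ρ c v, ?_⟩
    have hcm : Commute (T c) (N ^ l) :=
      (((show Commute c a from hc).map T).sub_right (Commute.one_right _)).pow_right l
    exact (LinearMap.congr_fun hcm.eq v).symm

/-- The criterion for groups of isometries. -/
theorem centricLocal_of_form (h : IsGoodForm B ε) (hρ : Function.Injective ρ)
    (hiso : ∀ g u v, B (ρ g u) (ρ g v) = B u v)
    (hW : ∀ a : G, orderOf a = p → ∃ W : Submodule F V, W ≠ ⊥ ∧ EnoughEichler ρ B W ∧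
      ∀ c : G, c * a = a * c → ∀ w ∈ W, ρ c w ∈ W) :
    CentricLocal p G := by
  intro a ha
  obtain ⟨W, hW0, hE, hstab⟩ := hW a ha
  haveI : Nontrivial V := by
    obtain ⟨w, -, hw0⟩ := Submodule.exists_mem_ne_zero_of_ne_bot hW0
    exact nontrivial_of_ne w 0 hw0
  let T : G →* Module.End F V :=
    { toFun := fun g => (ρ g).toLinearMap
      map_one' := by rw [map_one]; rfl
      map_mul' := fun x y => by rw [map_mul]; rfl }
  have hTi : Function.Injective T := fun x y e => hρ (LinearEquiv.toLinearMap_injective e)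
  have hnil : ∀ (r : G) (c : F), (∀ w ∈ W, ρ r w = c • w) → (∀ u ∈ perp B W, ρ r u - c • u ∈ W) →
      (∀ v, ρ r v - c • v ∈ perp B W) → T (r ^ p ^ 2) = algebraMap F _ (c ^ p ^ 2) := by
    intro r c h1 h2 h3
    rw [map_pow]
    refine pow_prime_sq_of_nilpotent (T r) c (LinearMap.ext fun v => ?_)
    have hX : ∀ x, (T r - algebraMap F (Module.End F V) c) x = ρ r x - c • x := fun x => rfl
    rw [pow_succ, pow_succ, pow_one, Module.End.mul_apply, Module.End.mul_apply, hX, hX, hX, LinearMap.zero_apply]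
    rw [sub_eq_zero]
    exact h1 _ (h2 _ (h3 v))
  refine ⟨(flagFix W (perp B W)).comap ρ, fun r => ?_, fun c hc => ?_, fun g hga hgreg hgR => ?_⟩
  · obtain ⟨r, h1, h2, h3⟩ := r
    refine ⟨2, Subtype.ext (hTi ?_)⟩
    rw [SubmonoidClass.coe_pow, OneMemClass.coe_one, map_one,
      hnil r 1 (by simpa using h1) (by simpa using h2) (by simpa using h3), one_pow, map_one]
  · have hkey : ∀ c : G, c * a = a * c → ∀ x ∈ (flagFix W (perp B W)).comap ρ,
        c * x * c⁻¹ ∈ (flagFix W (perp B W)).comap ρ := by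
      intro c hc x hx
      have hc' : c⁻¹ * a = a * c⁻¹ := ((show Commute c a from hc).inv_left).eq
      obtain ⟨x1, x2, x3⟩ := hx
      have hU : ∀ d : G, d * a = a * d → ∀ u ∈ perp B W, ρ d u ∈ perp B W := by
        intro d hd u hu w hw
        have := hiso d (ρ d⁻¹ w) u
        rw [← LinearEquiv.mul_apply (ρ d) (ρ d⁻¹), ← map_mul, mul_inv_cancel, map_one] at this
        rw [show B w (ρ d u) = B (ρ d⁻¹ w) u from this]
        exact hu _ (hstab d⁻¹ ((show Commute d a from hd).inv_left).eq w hw)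
      have e : ∀ v, ρ (c * x * c⁻¹) v - v = ρ c (ρ x (ρ c⁻¹ v) - ρ c⁻¹ v) := fun v => by
        rw [map_sub, map_mul, map_mul, LinearEquiv.mul_apply, LinearEquiv.mul_apply]
        congr 1
        rw [← LinearEquiv.mul_apply, ← map_mul, mul_inv_cancel, map_one]
        rfl
      refine ⟨fun w hw => ?_, fun u hu => ?_, fun v => ?_⟩
      · rw [← sub_eq_zero, e, x1 _ (hstab _ hc' w hw), sub_self, map_zero]
      · rw [e]; exact hstab c hc _ (x2 _ (hU _ hc' u hu))
      · rw [e]; exact hU c hc _ (x3 _)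
    refine Subgroup.mem_normalizer_iff.2 fun x => ⟨hkey c hc x, fun hx => ?_⟩
    have := hkey c⁻¹ ((show Commute c a from hc).inv_left).eq _ hx
    simpa [mul_assoc] using this
  · obtain ⟨t, t1, t2, t3⟩ := scalar_on_flag h hiso hW0 hE (hstab g hga) hgR
    obtain ⟨j, hj⟩ : ∃ j : ℕ, g = (g ^ p ^ 2) ^ j := by
      have hcop : Nat.Coprime (p ^ 2) (orderOf g) :=
        Nat.Coprime.pow_left 2 (((Fact.out : p.Prime).coprime_iff_not_dvd).2 hgreg)
      obtain ⟨j, hj⟩ := exists_pow_eq_self_of_coprime hcop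
      exact ⟨j, hj.symm⟩
    have hg : T g = algebraMap F _ ((t ^ p ^ 2) ^ j) := by
      conv_lhs => rw [hj]
      rw [map_pow, hnil g t t1 t2 t3, ← map_pow]
    refine Subgroup.mem_center_iff.2 fun y => hTi ?_
    rw [map_mul, map_mul, hg]
    exact (Algebra.commutes _ _).symm

end Cfsg.Agent.Lib.LieDefect
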