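import Cfsg.Agent.Lib.LieDefect.Criterion
import Cfsg.Agent.Lib.Suzuki.Centralizers
import Cfsg.Agent.Lib.SuzukiSp4.Iso
import Cfsg.Agent.Lib.Ree.SylowThree
import Cfsg.Agent.Lib.Ree.Instance

/-!
# Defect groups in the Suzuki groups and the small Ree groups
-/

set_option autoImplicit false

namespace Cfsg.Agent.Lib.LieDefect

open Cfsg

universe u v

/-- Distinct Sylow subgroups meet trivially. -/
def SylowMeetTrivially (p : ℕ) (G : Type u) [Group G] : Prop :=
  ∀ P Q : Sylow p G, P ≠ Q → (P : Subgroup G) ⊓ (Q : Subgroup G) = ⊥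

variable {p : ℕ} [Fact p.Prime] {G : Type u} [Group G]

omit [Fact p.Prime] in
theorem SylowMeetTrivially.of_equiv {H : Type v} [Group H] (h : SylowMeetTrivially p G) (e : G ≃* H) :
    SylowMeetTrivially p H := by
  intro P Q hne
  let P' : Sylow p G := P.comapOfInjective e.toMonoidHom e.injective (by rw [MonoidHom.range_eq_top.2 (show Function.Surjective e.toMonoidHom from e.surjective)]; exact le_top)
  let Q' : Sylow p G := Q.comapOfInjective e.toMonoidHom e.injective (by rw [MonoidHom.range_eq_top.2 (show Function.Surjective e.toMonoidHom from e.surjective)]; exact le_top)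
  have h1 := h P' Q' fun he => hne (Sylow.ext (Subgroup.comap_injective (f := e.toMonoidHom) e.surjective
    (congrArg (fun S : Sylow p G => (S : Subgroup G)) he)))
  refine (Subgroup.eq_bot_iff_forall _).2 fun x hx => ?_
  have h2 : e.symm x ∈ (P' : Subgroup G) ⊓ (Q' : Subgroup G) :=
    ⟨show e (e.symm x) ∈ (P : Subgroup H) by rw [e.apply_symm_apply]; exact hx.1, show e (e.symm x) ∈ (Q : Subgroup H) by rw [e.apply_symm_apply]; exact hx.2⟩
  rw [h1, Subgroup.mem_bot] at h2
  simpa using congrArg e h2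

theorem zeroOrFull_of_sylowMeetTrivially [Finite G] (h : SylowMeetTrivially p G) : ZeroOrFull p G := by
  intro M hM B hB
  have hMp := Lib.Blocks.isPModular_isPrime hM
  obtain ⟨D, hD⟩ := Lib.Blocks.exists_isDefectGroup (p := p) hB
  obtain ⟨P, hP⟩ := (Lib.Blocks.isPGroup_of_isDefectGroup hD).exists_le_sylow
  obtain ⟨x, -, -, hxP⟩ := Cfsg.Agent.S0956.result p M hM B hB D hD P hP
  have hcard := Lib.Blocks.card_defectGroup hM hB hD
  have hpow := Nat.pow_right_injective (Fact.out : p.Prime).two_le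
  by_cases he : x • P = P
  · right
    have e : (P : Subgroup G).map (MulAut.conj x).toMonoidHom = P := by
      conv_rhs => rw [← he]
      rfl
    have h1 := P.card_eq_multiplicity
    rw [show Nat.card ↥(P : Subgroup G) = Nat.card ↥D by rw [← hxP, e, inf_idem], hcard] at h1
    exact hpow h1
  · left
    have h1 : D = ⊥ := by
      rw [← hxP]
      exact h P (x • P) (Ne.symm he)
    rw [h1, Subgroup.card_bot, ← pow_zero p] at hcard
    exact (hpow hcard).symm

section suzuki

variable {F : Type*} [Field F] [Fintype F] {m : ℕ}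

theorem centricLocal_sz (h : Suzuki.Hyp F m) : CentricLocal 2 ↥(Cfsg.Sz F m) := by
  intro a ha
  refine ⟨⊥, IsPGroup.of_bot, fun c _ => Subgroup.mem_normalizer_iff.2 fun x => by
    rw [Subgroup.mem_bot, Subgroup.mem_bot, conj_eq_one_iff], fun g hg hreg _ => ?_⟩
  have ha1 : a ≠ 1 := fun e => by rw [e, orderOf_one] at ha; exact absurd ha (by norm_num)
  have h2 : ¬ 2 ∣ Fintype.card F ^ 2 + 1 := by
    have : 2 ∣ Fintype.card F ^ 2 := by
      rw [h.hF, ← pow_mul]; exact dvd_pow_self 2 (by omega)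
    omega
  obtain ⟨x, hx⟩ := Suzuki.exists_fix_of_dvd_stab Nat.prime_two ha h2
  have hgC : g ∈ Subgroup.centralizer ({a} : Set ↥(Cfsg.Sz F m)) := Subgroup.mem_centralizer_singleton_iff.2 hg
  have haC : a ∈ Subgroup.centralizer ({a} : Set ↥(Cfsg.Sz F m)) := Subgroup.mem_centralizer_singleton_iff.2 rfl
  obtain ⟨k, hk | hk⟩ := Suzuki.centralizer_of_fix h ha1 hx
  · haveI : Fact (Nat.Prime 2) := ⟨Nat.prime_two⟩
    have hT : IsPGroup 2 (Suzuki.transl h) :=
      IsPGroup.of_card (n := (2 * m + 1) * 2) (by rw [Suzuki.card_transl, h.hF, ← pow_mul])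
    obtain ⟨n, hn⟩ := (hT.map (MulAut.conj k).toMonoidHom) ⟨g, hk hgC⟩
    have h1 : orderOf g ∣ 2 ^ n := orderOf_dvd_of_pow_eq_one (congrArg Subtype.val hn)
    obtain ⟨i, -, hi⟩ := (Nat.dvd_prime_pow Nat.prime_two).1 h1
    rcases i with _ | i
    · rw [pow_zero, orderOf_eq_one_iff] at hi
      rw [hi]; exact one_mem _
    · exact absurd (hi ▸ dvd_pow_self 2 (Nat.succ_ne_zero i)) hreg
  · exfalso
    obtain ⟨_, ⟨u, rfl⟩, e⟩ := hk haC
    have hu : (Suzuki.szHHom h u) ^ 2 = 1 := by
      apply (MulAut.conj k).injective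
      rw [map_pow, map_one]
      show ((MulAut.conj k).toMonoidHom _) ^ 2 = 1
      rw [e, ← ha, pow_orderOf_eq_one]
    have hu2 : u * u = 1 := by
      apply Suzuki.szH_injective h
      show Suzuki.szHHom h (u * u) = Suzuki.szH h 1
      rw [map_mul, ← pow_two, hu]
      exact (map_one (Suzuki.szHHom h)).symm
    rw [Suzuki.units_sq_eq_one h hu2, map_one, map_one] at e
    exact ha1 e.symm

end suzuki

theorem zeroOrFull_suzuki {G : Type u} [Group G] [Finite G] (hG : Lie.IsoSuzuki G) : ZeroOrFull 2 G := by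
  obtain ⟨F, _, _, m, hm, hF, ⟨e⟩⟩ := hG
  haveI : Fact (Nat.Prime 2) := ⟨Nat.prime_two⟩
  exact zeroOrFull_of_centricLocal (((centricLocal_sz (F := F) ⟨hm, hF⟩).of_equiv
    (SuzukiSp4.szEquiv ⟨hm, hF⟩)).of_equiv e.symm)

theorem zeroOrFull_ree {G : Type u} [Group G] [Finite G] (hG : Lie.IsoRee G) : ZeroOrFull 3 G := by
  obtain ⟨K, _, _, m, -, hK, ⟨e⟩⟩ := hG
  haveI : Fact (Nat.Prime 3) := ⟨Nat.prime_three⟩
  exact zeroOrFull_of_sylowMeetTrivially
    (SylowMeetTrivially.of_equiv (fun P Q h => (Ree.facts hK).sylow_three_TI P Q h) e.symm)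

end Cfsg.Agent.Lib.LieDefect
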