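import Cfsg.Agent.Lib.LieDefect.TwistedRoots

/-!
# Defect groups of the twisted groups

A non-trivial defect group is, up to conjugation, the intersection `U ∩ n⁻¹ U n` of the Sylow subgroup with
a monomial conjugate, on which `n` acts like an element of the Borel subgroup.  The leading term lemma makes
the set of orbits on which the Weyl element ascends grow, until the defect group is the Sylow subgroup.
-/

set_option autoImplicit false

namespace Cfsg.Agent.Lib.LieDefect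

open Cfsg Cfsg.Lie
open Cfsg.Agent.Lib.Chev Cfsg.Agent.Lib.Twisted.Core

variable {D : ChevalleyDatum} {C : Cert} {F : Type*} [Field F] {T : Twist D C F} {ι : Type}
  {S : OrbitSys T ι}

/-! ### Orbits and simple roots -/

/-- The root is fundamental. -/
def IsSimpleRoot (hh : Rooted D C) (r : Fin D.nroots) : Prop :=
  ∃ (q : ℕ) (hq : q < D.rank), r = hh.toChecked.sroot hq

theorem isSimpleRoot_of_ht (hh : Rooted D C) {r : Fin D.nroots} (h1 : ht D C r.val = 1) :
    IsSimpleRoot hh r := by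
  have h := hh.toChecked
  have hp : D.nroots / 2 ≤ r.val := (one_le_ht_iff hh r).1 h1.ge
  by_contra hn
  have hsum : ∀ l ∈ Finset.range D.rank, coef D C l r.val ≤ 0 := by
    intro l hl
    by_contra hpos
    refine hn ⟨l, Finset.mem_range.1 hl, Fin.ext (hh.eq_simple_of_support (Finset.mem_range.1 hl) ⟨hp, r.2⟩
      fun l' hl' hne => ?_)⟩
    have h2 : coef D C l r.val + coef D C l' r.val ≤ ht D C r.val := by
      refine le_trans (le_of_eq (Finset.sum_pair (f := fun a => coef D C a r.val) (Ne.symm hne)).symm)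
        (Finset.sum_le_sum_of_subset_of_nonneg ?_ fun a ha _ => h.coef_nonneg (Finset.mem_range.1 ha) r.2 hp)
      intro a ha
      simp only [Finset.mem_insert, Finset.mem_singleton] at ha
      rcases ha with rfl | rfl
      · exact hl
      · exact Finset.mem_range.2 hl'
    have h3 := h.coef_nonneg hl' r.2 hp
    omega
  have := Finset.sum_nonpos hsum
  rw [ht] at h1
  omega

theorem sroot_iterate (hT : T.FixW (1 : Equiv.Perm (Fin D.nroots))) {i : ℕ} (hi : i < D.rank) (k : ℕ) :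
    T.node^[k] i < D.rank :=
  (OrbitSys.asc_iterate hT hi k).1

theorem orbit_induction {P : ℕ → Prop} (S : OrbitSys T ι) {j : ι}
    (step : ∀ i < D.rank, P i → P (T.node i)) {i i' : ℕ} (hi : i ∈ S.J j) (hi' : i' ∈ S.J j) (h0 : P i) :
    P i' := by
  obtain ⟨k, rfl⟩ := S.J_trans j i hi i' hi'
  have hir := Finset.mem_range.1 (S.J_lt j hi)
  induction k with
  | zero => exact h0
  | succ k ih =>
    have hk : T.node^[k] i ∈ S.J j := by
      clear ih hi'
      induction k with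
      | zero => exact hi
      | succ k ih' => rw [Function.iterate_succ_apply']; exact S.J_node j _ ih'
    rw [Function.iterate_succ_apply']
    exact step _ (Finset.mem_range.1 (S.J_lt j hk)) (ih hk)

theorem isSimpleRoot_orbit (S : OrbitSys T ι) {z : Equiv.Perm (Fin D.nroots)} (hz : T.FixW z) {j : ι}
    {i i' : ℕ} (hi : i ∈ S.J j) (hi' : i' ∈ S.J j)
    (h0 : ∀ hir, IsSimpleRoot T.hh (z (T.hh.toChecked.sroot (i := i) hir))) :
    ∀ hir, IsSimpleRoot T.hh (z (T.hh.toChecked.sroot (i := i') hir)) := by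
  refine orbit_induction (P := fun a => ∀ hir, IsSimpleRoot T.hh (z (T.hh.toChecked.sroot (i := a) hir))) S
    (fun a ha hP hir => ?_) hi hi' h0
  obtain ⟨q, hq, e⟩ := hP ha
  refine ⟨T.node q, T.node_lt q hq, ?_⟩
  rw [← T.sroot_rho ha, hz.apply, e, T.sroot_rho hq]

theorem fix_orbit (S : OrbitSys T ι) {z : Equiv.Perm (Fin D.nroots)} (hz : T.FixW z) {j : ι}
    {i i' : ℕ} (hi : i ∈ S.J j) (hi' : i' ∈ S.J j)
    (h0 : ∀ hir, z (T.hh.toChecked.sroot (i := i) hir) = T.hh.toChecked.sroot hir) :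
    ∀ hir, z (T.hh.toChecked.sroot (i := i') hir) = T.hh.toChecked.sroot hir := by
  refine orbit_induction (P := fun a => ∀ hir, z (T.hh.toChecked.sroot (i := a) hir) = T.hh.toChecked.sroot hir)
    S (fun a ha hP hir => ?_) hi hi' h0
  rw [← T.sroot_rho ha, hz.apply, hP ha]

/-- The adjacency needed: every proper non-empty set of orbits has a member moved by an outside orbit. -/
def Adjacent (S : OrbitSys T ι) : Prop :=
  ∀ P : Set ι, P.Nonempty → Pᶜ.Nonempty → ∃ j ∈ P, ∃ c ∈ Pᶜ, ∃ i ∈ S.J j, ∃ hi : i < D.rank,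
    S.wJ c (T.hh.toChecked.sroot hi) ≠ T.hh.toChecked.sroot hi

/-- A bound for the height of an image of a root supported on a set of nodes. -/
theorem mul_le_ht_image (hh : Rooted D C) {z : Equiv.Perm (Fin D.nroots)}
    (hz : z ∈ weyl hh.toChecked (Finset.range D.rank)) {J : Finset ℕ} {k : ℤ}
    (hk : ∀ i ∈ J, ∀ hi : i < D.rank, k ≤ ht D C (z (hh.toChecked.sroot hi)).val) {r : Fin D.nroots}
    (hr : D.nroots / 2 ≤ r.val) (hs : Supp D C J r.val) (hk0 : 0 ≤ k) : k ≤ ht D C (z r).val := by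
  have h := hh.toChecked
  rw [ht_lin hh hz r]
  have e : ht D C r.val = ∑ l : Fin D.rank, coef D C l.1 r.val := by rw [ht, Finset.sum_range]
  have h1 : k * ht D C r.val ≤ ∑ l : Fin D.rank, coef D C l.1 r.val * ht D C (z (h.sroot l.2)).val := by
    rw [e, Finset.mul_sum]
    refine Finset.sum_le_sum fun l _ => ?_
    by_cases hl : l.1 ∈ J
    · rw [mul_comm k]
      exact mul_le_mul_of_nonneg_left (hk l.1 hl l.2) (h.coef_nonneg l.2 r.2 hr)
    · rw [hs l.1 l.2 hl, mul_zero, zero_mul]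
  have h2 := h.ht_pos r.2 hr
  nlinarith

/-! ### The subgroups `U ∩ m⁻¹ U m` -/

/-- `v` is a fixed element of `U` sent into `U` by `m`. -/
def InD (T : Twist D C F) (m v : GL D.Idx F) : Prop :=
  v ∈ D.posUnipotent F ∧ v ∈ T.fixedGroup ∧ m * v * m⁻¹ ∈ D.posUnipotent F

theorem inD_of_leading [Fintype F] {z : Equiv.Perm (Fin D.nroots)} {m : GL D.Idx F} (hm : Cls T.hh z m)
    (S : OrbitSys T ι) {j : ι} (hasc : ∀ i ∈ S.J j, Asc z i) {v : GL D.Idx F}
    (hv : v ∈ Twist.uGrp D F (S.wJ j) ⊓ T.fixedGroup) : InD T m v := by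
  refine ⟨uGrp_le_pos T.hh.toChecked _ hv.1, hv.2, ?_⟩
  rw [T.hh.toChecked.posUnipotent_eq]
  refine hm.conj_rootGen (S' := posSet D) (fun r hr => by obtain ⟨q, -, rfl⟩ := hr; exact q.2) (fun r hr => ?_) hv.1
  obtain ⟨q, hq, eq⟩ := hr
  rw [Fin.val_inj] at eq
  subst eq
  obtain ⟨hq1, hq2⟩ := (S.mem_invs_wJ j).1 hq
  exact ⟨T.hh.toChecked.pos_of_supp hm.mem_weyl hasc hq1 hq2, Fin.isLt _⟩

/-- An ascending orbit is sent to fundamental roots. -/
theorem ht_eq_one_of_asc [Fintype F] (hlead : HasLead S) {z : Equiv.Perm (Fin D.nroots)} {m c : GL D.Idx F}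
    (hz : T.FixW z) (hm : Cls T.hh z m) (hc : c ∈ D.borelSubgroup F)
    (hact : ∀ v, InD T m v → m * v * m⁻¹ = c * v * c⁻¹) {j : ι} (hasc : ∀ i ∈ S.J j, Asc z i) {i : ℕ}
    (hi : i ∈ S.J j) (hir : i < D.rank) : ht D C (z (T.hh.toChecked.sroot hir)).val = 1 := by
  have hh := T.hh
  have h := hh.toChecked
  have hpos : ∀ a ∈ S.J j, ∀ ha : a < D.rank, 1 ≤ ht D C (z (h.sroot ha)).val := fun a ha har =>
    (one_le_ht_iff hh _).2 ((h.asc_iff har).1 (hasc a ha))
  by_contra hne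
  have hall : ∀ a ∈ S.J j, ∀ ha : a < D.rank, (2 : ℤ) ≤ ht D C (z (h.sroot ha)).val := by
    intro a ha har
    by_contra hlt
    have h1 := hpos a ha har
    obtain ⟨q, hq, e⟩ := isSimpleRoot_orbit S hz ha hi
      (fun _ => isSimpleRoot_of_ht hh (by omega)) hir
    exact hne (by rw [e]; exact h.simple_ht hq)
  obtain ⟨v, hv, hvn⟩ := exists_leading hlead j hi
  have hvD := inD_of_leading hm S hasc hv
  have h2 : m * v * m⁻¹ ∈ rootGen D F (geSet D C 2) := by
    refine hm.conj_rootGen (S' := geSet D C 2) (fun r hr => by obtain ⟨q, -, rfl⟩ := hr; exact q.2)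
      (fun r hr => ?_) hv.1
    obtain ⟨q, hq, eq⟩ := hr
    rw [Fin.val_inj] at eq
    subst eq
    obtain ⟨hq1, hq2⟩ := (S.mem_invs_wJ j).1 hq
    have h3 := mul_le_ht_image hh hm.mem_weyl hall hq1 hq2 (by norm_num)
    exact ⟨⟨(one_le_ht_iff hh _).1 (by omega), Fin.isLt _⟩, h3⟩
  rw [hact v hvD, borel_conj_geSet hh (by norm_num) hc] at h2
  refine hvn (rootGen_mono (T := posSet D \ {D.simple i}) (fun r hr => ⟨hr.1, fun e => ?_⟩) h2)
  have := hr.2
  rw [Set.mem_singleton_iff.1 e, h.simple_ht hir] at this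
  omega

/-! ### Defect groups -/

variable {p : ℕ} [Fact p.Prime] [CharP F p] [Fintype F] [Finite ι] {G : Type*} [Group G] [Finite G]
  {φ : G →* GL D.Idx F}

omit [Finite ι] in
/-- The unipotent group of a twisted group is a Sylow subgroup. -/
theorem exists_sylow_fixed (hlead : HasLead S) (hφ : Function.Injective φ)
    (hrange : φ.range = T.fixedGroup) :
    ∃ P : Sylow p G, (P : Subgroup G) = (D.posUnipotent F).comap φ := by
  have hh := T.hh
  have h := hh.toChecked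
  have hUp : IsPGroup p ↥(D.posUnipotent F) := by
    obtain ⟨k, -, hk⟩ := FiniteField.card F p
    exact IsPGroup.of_card (n := (k : ℕ) * (D.nroots / 2)) (by rw [hh.card_posUnipotent, hk, ← pow_mul])
  set U0 := (D.posUnipotent F).comap φ with hU0
  have hU0p : IsPGroup p ↥U0 := hUp.comap_of_injective φ hφ
  obtain ⟨P, hP⟩ := hU0p.exists_le_sylow
  refine ⟨P, le_antisymm ?_ hP⟩
  by_contra hne
  haveI : Group.IsNilpotent ↥(P : Subgroup G) := P.2.isNilpotent
  have hlt : U0.subgroupOf (P : Subgroup G) < ⊤ := lt_top_iff_ne_top.2 fun e => hne (Subgroup.subgroupOf_eq_top.1 e)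
  obtain ⟨g, hgN, hgU⟩ := SetLike.exists_of_lt (Group.normalizerCondition_of_isNilpotent _ hlt)
  set x := φ (g : G) with hx
  have hxf : x ∈ T.fixedGroup := hrange ▸ MonoidHom.mem_range.2 ⟨_, rfl⟩
  have hnorm : ∀ v ∈ D.posUnipotent F, v ∈ T.fixedGroup → x * v * x⁻¹ ∈ D.posUnipotent F := by
    intro v hv hvf
    obtain ⟨d, rfl⟩ := MonoidHom.mem_range.1 (hrange.symm ▸ hvf)
    have h1 := (Subgroup.mem_normalizer_iff.1 hgN ⟨d, hP hv⟩).1 hv
    simpa [Subgroup.mem_subgroupOf, U0, x] using h1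
  obtain ⟨w, hw, hcan⟩ := OrbitSys.fixed_canonical hxf
  obtain ⟨⟨n, hn, hnc⟩, -⟩ := S.fix_data hw
  obtain ⟨b, hb, u, hu, e⟩ := hcan n hnc (S.G_le hn)
  have huU := uGrp_le_pos h _ hu.1
  have hBU : ∀ {b v : GL D.Idx F}, b ∈ D.borelSubgroup F → v ∈ D.posUnipotent F →
      b * v * b⁻¹ ∈ D.posUnipotent F := fun {b v} hb hv =>
    (Subgroup.mem_normalizer_iff.1 (sup_le (Subgroup.le_normalizer (H := D.posUnipotent F))
      hh.diagonal_le_normalizer_posUnipotent hb) v).1 hv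
  have hw1 : w = 1 := by
    by_contra hw1
    obtain ⟨j, hj⟩ := S.exists_descent_orbit hw hw1
    obtain ⟨i, hi⟩ := S.J_nonempty j
    obtain ⟨v, hv, hvn⟩ := exists_leading hlead j hi
    have hvU := uGrp_le_pos h _ hv.1
    have h1 : u⁻¹ * v * u ∈ D.posUnipotent F := mul_mem (mul_mem (inv_mem huU) hvU) huU
    have h2 := hnorm _ h1 (mul_mem (mul_mem (inv_mem hu.2) hv.2) hu.2)
    have h3 : n * v * n⁻¹ ∈ D.posUnipotent F := by
      have h4 := hBU (inv_mem hb.1) h2
      convert h4 using 1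
      rw [e]; group
    have h5 : n * v * n⁻¹ ∈ D.negUnipotent F := by
      rw [h.negUnipotent_eq]
      refine hnc.conj_rootGen (S' := negSet D) (fun r hr => by obtain ⟨q, -, rfl⟩ := hr; exact q.2)
        (fun r hr => ?_) hv.1
      obtain ⟨q, hq, eq⟩ := hr
      rw [Fin.val_inj] at eq
      subst eq
      exact not_le.1 (h.mem_invs.1 (S.invs_wJ_subset hw hj hq)).2
    have h6 : v = 1 := conj_eq_one_iff.1 (Subgroup.mem_bot.1 (hh.borel_inf_negUnipotent.le
      (Subgroup.mem_inf.2 ⟨Subgroup.mem_sup_left h3, h5⟩)))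
    exact hvn (h6 ▸ one_mem _)
  have hxB : x ∈ D.borelSubgroup F := by
    rw [e]
    exact mul_mem (mul_mem hb.1 (Subgroup.mem_sup_right ((hw1 ▸ hnc).diag_of_one))) (Subgroup.mem_sup_left huU)
  -- a `p`-element of `B` lies in `U`
  obtain ⟨Q, hQ⟩ := hh.exists_sylow_posUnipotent (F := F) p
  have hxG : x ∈ D.group F := hh.borel_le_group hxB
  obtain ⟨k, hk⟩ := P.2 g
  have hxp : IsPGroup p ↥(Subgroup.zpowers (⟨x, hxG⟩ : ↥(D.group F))) := by
    obtain ⟨l, -, hl⟩ := (Nat.dvd_prime_pow (Fact.out : p.Prime)).1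
      (orderOf_dvd_of_pow_eq_one (x := (⟨x, hxG⟩ : ↥(D.group F))) (n := p ^ k) (Subtype.ext (by
        rw [SubmonoidClass.coe_pow, OneMemClass.coe_one]
        show φ (g : G) ^ p ^ k = 1
        rw [← map_pow, ← SubmonoidClass.coe_pow, hk, OneMemClass.coe_one, map_one])))
    exact IsPGroup.of_card (n := l) (by rw [Nat.card_zpowers, hl])
  have hxN : Subgroup.zpowers (⟨x, hxG⟩ : ↥(D.group F)) ≤ Subgroup.normalizer ((Q : Subgroup ↥(D.group F)) : Set ↥(D.group F)) := by
    rw [Subgroup.zpowers_le]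
    refine Subgroup.mem_normalizer_iff.2 fun y => ?_
    rw [hQ, Subgroup.mem_subgroupOf, Subgroup.mem_subgroupOf]
    exact Subgroup.mem_normalizer_iff.1 (sup_le (Subgroup.le_normalizer (H := D.posUnipotent F))
      hh.diagonal_le_normalizer_posUnipotent hxB) y.1
  have hsup := Q.2.to_sup_of_normal_left' hxp hxN
  have := Q.3 hsup le_sup_left
  refine hgU ?_
  have hxQ : (⟨x, hxG⟩ : ↥(D.group F)) ∈ (Q : Subgroup ↥(D.group F)) :=
    this ▸ Subgroup.mem_sup_right (Subgroup.mem_zpowers _)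
  rw [hQ] at hxQ
  exact hxQ

/-- The data attached to a conjugate of the defect group `Dg` inside `U`. -/
def State (T : Twist D C F) (φ : G →* GL D.Idx F) (Dg : Subgroup G) (z : Equiv.Perm (Fin D.nroots))
    (m c : GL D.Idx F) (g : G) : Prop :=
  T.FixW z ∧ Cls T.hh z m ∧ m ∈ T.fixedGroup ∧ c ∈ D.borelSubgroup F ∧
    (∀ v, InD T m v → m * v * m⁻¹ = c * v * c⁻¹) ∧ ∀ v, InD T m v ↔ ∃ d ∈ Dg, φ (g⁻¹ * d * g) = v

omit [Finite ι] in
theorem green_step (hlead : HasLead S) (hφ : Function.Injective φ)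
    (hrange : φ.range = T.fixedGroup) {M : Ideal AlgInt} (hM : IsPModular p M) {B : Set (IrrCharacter G)}
    (hB : IsPBlock M B) {Dg : Subgroup G} (hD : IsDefectGroup p M B Dg) (g : G)
    (hg : ∀ d ∈ Dg, φ (g⁻¹ * d * g) ∈ D.posUnipotent F) :
    ∃ z m c, ∃ b ∈ D.borelSubgroup F ⊓ T.fixedGroup, ∃ g' : G,
      φ g' = φ g * b ∧ State T φ Dg z m c g' := by
  have hh := T.hh
  have h := hh.toChecked
  obtain ⟨P0, hP0⟩ := exists_sylow_fixed (p := p) hlead hφ hrange
  have hmemP : ∀ y : G, y ∈ (g • P0 : Sylow p G).toSubgroup ↔ φ (g⁻¹ * y * g) ∈ D.posUnipotent F := by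
    intro y
    rw [Sylow.coe_subgroup_smul, Subgroup.mem_smul_pointwise_iff_exists]
    constructor
    · rintro ⟨s, hs, rfl⟩
      rw [hP0, Subgroup.mem_comap] at hs
      rwa [MulAut.smul_def, MulAut.conj_apply, show g⁻¹ * (g * s * g⁻¹) * g = s by group]
    · exact fun hy => ⟨g⁻¹ * y * g, by rw [hP0, Subgroup.mem_comap]; exact hy, by simp [mul_assoc]⟩
  obtain ⟨x, -, ⟨Sx, hSx⟩, hxP⟩ := Cfsg.Agent.S0956.result p M hM B hB Dg hD (g • P0)
    fun d hd => (hmemP d).2 (hg d hd)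
  have hxD : ∀ d ∈ Dg, d * x = x * d := fun d hd => by
    rw [← hSx] at hd
    obtain ⟨s, -, rfl⟩ := hd
    exact Subgroup.mem_centralizer_singleton_iff.1 s.2
  set x' := φ (g⁻¹ * x * g) with hx'
  have hx'f : x' ∈ T.fixedGroup := hrange ▸ MonoidHom.mem_range.2 ⟨_, rfl⟩
  obtain ⟨w, hw, hcan⟩ := OrbitSys.fixed_canonical hx'f
  obtain ⟨⟨n, hn, hnc⟩, -⟩ := S.fix_data hw
  obtain ⟨b, hb, u, hu, e⟩ := hcan n hnc (S.G_le hn)
  obtain ⟨β, hβ⟩ := MonoidHom.mem_range.1 (hrange.symm ▸ hb.2)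
  have huU := uGrp_le_pos h _ hu.1
  have hBU : ∀ {b : GL D.Idx F}, b ∈ D.borelSubgroup F → ∀ v,
      (v ∈ D.posUnipotent F ↔ b * v * b⁻¹ ∈ D.posUnipotent F) := fun {b} hb v =>
    Subgroup.mem_normalizer_iff.1 (sup_le (Subgroup.le_normalizer (H := D.posUnipotent F))
      hh.diagonal_le_normalizer_posUnipotent hb) v
  have hset : ∀ v, InD T n⁻¹ v ↔ ∃ d ∈ Dg, φ ((g * β)⁻¹ * d * (g * β)) = v := by
    intro v
    have hiff : ∀ y : G, y ∈ Dg ↔ φ (g⁻¹ * y * g) ∈ D.posUnipotent F ∧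
        φ (g⁻¹ * (x⁻¹ * y * x) * g) ∈ D.posUnipotent F := fun y => by
      conv_lhs => rw [← hxP, Subgroup.mem_inf, Subgroup.mem_map_equiv, hmemP, hmemP, MulAut.conj_symm_apply]
    have key : ∀ y : G, y ∈ Dg ↔ InD T n⁻¹ (φ ((g * β)⁻¹ * y * (g * β))) := by
      intro y
      have h0 : φ ((g * β)⁻¹ * y * (g * β)) = b⁻¹ * φ (g⁻¹ * y * g) * b := by
        simp only [map_mul, map_inv, mul_inv_rev, hβ, mul_assoc]
      have h1 : φ (g⁻¹ * (x⁻¹ * y * x) * g) = u⁻¹ * (n⁻¹ * (b⁻¹ * φ (g⁻¹ * y * g) * b) * n⁻¹⁻¹) * u⁻¹⁻¹ := by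
        rw [show g⁻¹ * (x⁻¹ * y * x) * g = (g⁻¹ * x * g)⁻¹ * (g⁻¹ * y * g) * (g⁻¹ * x * g) by group,
          map_mul, map_mul, map_inv, ← hx', e]
        group
      rw [hiff, InD, h0, h1, ← hBU (Subgroup.mem_sup_left (inv_mem huU)), hBU (inv_mem hb.1) (φ (g⁻¹ * y * g)),
        inv_inv]
      exact ⟨fun hy => ⟨hy.1, mul_mem (mul_mem (inv_mem hb.2) (hrange ▸ MonoidHom.mem_range.2 ⟨_, rfl⟩)) hb.2,
        hy.2⟩, fun hy => ⟨hy.1, hy.2.2⟩⟩
    constructor
    · intro hv
      obtain ⟨d, hd⟩ := MonoidHom.mem_range.1 (hrange.symm ▸ hv.2.1)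
      have e1 : φ ((g * β)⁻¹ * ((g * β) * d * (g * β)⁻¹) * (g * β)) = v := by rw [← hd]; congr 1; group
      exact ⟨_, (key _).2 (by rw [e1]; exact hv), e1⟩
    · rintro ⟨d, hd, rfl⟩
      exact (key d).1 hd
  refine ⟨w⁻¹, n⁻¹, u * b, b, hb, g * β, by rw [map_mul, hβ],
    hw.inv, hnc.inv, inv_mem (S.G_le hn), mul_mem (Subgroup.mem_sup_left huU) hb.1, fun v hv => ?_, hset⟩
  obtain ⟨d, hd, rfl⟩ := (hset v).1 hv
  have hv' : Commute (φ ((g * β)⁻¹ * d * (g * β))) (n * (u * b)) := by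
    have h1 : φ ((g * β)⁻¹ * x * (g * β)) = n * (u * b) := by
      rw [show (g * β)⁻¹ * x * (g * β) = β⁻¹ * (g⁻¹ * x * g) * β by group, map_mul, map_mul, map_inv, hβ,
        ← hx', e]
      group
    rw [← h1]
    refine Commute.map ?_ φ
    show _ * _ = _ * _
    calc (g * β)⁻¹ * d * (g * β) * ((g * β)⁻¹ * x * (g * β)) = (g * β)⁻¹ * (d * x) * (g * β) := by group
      _ = (g * β)⁻¹ * (x * d) * (g * β) := by rw [hxD d hd]
      _ = _ := by group
  calc n⁻¹ * φ ((g * β)⁻¹ * d * (g * β)) * n⁻¹⁻¹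
      = n⁻¹ * (φ ((g * β)⁻¹ * d * (g * β)) * (n * (u * b))) * (u * b)⁻¹ := by group
    _ = n⁻¹ * (n * (u * b) * φ ((g * β)⁻¹ * d * (g * β))) * (u * b)⁻¹ := by rw [hv'.eq]
    _ = _ := by group

/-- One more orbit becomes ascending. -/
theorem exists_more_asc (hlead : HasLead S) (hadj : Adjacent S)
    (hφ : Function.Injective φ) (hrange : φ.range = T.fixedGroup) {M : Ideal AlgInt} (hM : IsPModular p M)
    {B : Set (IrrCharacter G)} (hB : IsPBlock M B) {Dg : Subgroup G} (hD : IsDefectGroup p M B Dg)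
    {z : Equiv.Perm (Fin D.nroots)} {m c : GL D.Idx F} {g : G} (hst : State T φ Dg z m c g)
    (hsome : ∃ j, ∀ i ∈ S.J j, Asc z i) (hne : z ≠ 1) :
    ∃ z' m' c' g', State T φ Dg z' m' c' g' ∧
      {j | ∀ i ∈ S.J j, Asc z i} ⊂ {j | ∀ i ∈ S.J j, Asc z' i} := by
  have hh := T.hh
  have h := hh.toChecked
  obtain ⟨hz, hm, -, -, -, hset⟩ := hst
  set A := {j | ∀ i ∈ S.J j, Asc z i}
  obtain ⟨j0, hj0⟩ := S.exists_descent_orbit hz hne
  obtain ⟨jA, hjA, cj, hcj, iA, hiA, hiAr, hmove⟩ := hadj A hsome ⟨j0, fun hA => by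
    obtain ⟨i, hi⟩ := S.J_nonempty j0
    exact hj0 i hi (hA i hi)⟩
  have hcdesc : ∀ i ∈ S.J cj, ¬ Asc z i := fun i hi hA =>
    hcj fun i' hi' => (S.asc_orbit hz hi hi').2 hA
  set s := S.wJ cj with hs
  set ν := S.sEl cj with hν
  have hνc : Cls hh s ν := S.sEl_cls cj
  obtain ⟨νG, hνG⟩ := MonoidHom.mem_range.1 (hrange.symm ▸ S.G_le (S.sEl_mem cj))
  have hsub : ∀ r : Fin D.nroots, D.nroots / 2 ≤ r.val → D.nroots / 2 ≤ (z r).val →
      D.nroots / 2 ≤ (s r).val := fun r hr hzr => by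
    by_contra hn
    exact (h.mem_invs.1 (S.invs_wJ_subset hz hcdesc (h.mem_invs.2 ⟨hr, hn⟩))).2 hzr
  have hνU : ∀ v, InD T m v → ν * v * ν⁻¹ ∈ D.posUnipotent F := fun v hv => by
    rw [h.posUnipotent_eq]
    exact hνc.conj_rootGen (S' := posSet D) (fun r hr => hr.1.2)
      (fun r hr => ⟨hsub r hr.1.1 ((one_le_ht_iff hh _).1 (hr.2 r.2)), Fin.isLt _⟩)
      (mem_geImg_of_conj_mem hh hm hv.1 hv.2.2)
  have hg : ∀ d ∈ Dg, φ ((g * νG⁻¹)⁻¹ * d * (g * νG⁻¹)) ∈ D.posUnipotent F := fun d hd => by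
    have h1 := hνU _ ((hset _).2 ⟨d, hd, rfl⟩)
    convert h1 using 1
    simp only [mul_inv_rev, inv_inv, map_mul, map_inv, hνG, ← hν, mul_assoc]
  obtain ⟨z', m', c', b, hb, g', hg', hst'⟩ := green_step hlead hφ hrange hM hB hD _ hg
  refine ⟨z', m', c', g', hst', ?_⟩
  obtain ⟨hz', hm', -, hc', hact', hset'⟩ := hst'
  -- the conjugate of a leading element
  have key : ∀ j ∈ A, ∀ (k : ℤ), 1 ≤ k → ∀ i ∈ S.J j, ∀ hir : i < D.rank,
      ht D C (s (h.sroot hir)).val = k → (∀ a ∈ S.J j, ∀ har : a < D.rank, k ≤ ht D C (s (h.sroot har)).val) →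
      k ≤ ht D C (z' (s (h.sroot hir))).val := by
    intro j hj k hk i hi hir hki hmin
    obtain ⟨v, hv, hvn⟩ := exists_leading hlead j hi
    have hvD := inD_of_leading hm S hj hv
    have heU := hνU v hvD
    set e := ν * v * ν⁻¹ with he
    set β := s (h.sroot hir) with hβ
    have hek : e ∈ rootGen D F (geSet D C k) := by
      refine hνc.conj_rootGen (S' := geSet D C k) (fun r hr => by obtain ⟨q, -, rfl⟩ := hr; exact q.2)
        (fun r hr => ?_) hv.1
      obtain ⟨q, hq, eq⟩ := hr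
      rw [Fin.val_inj] at eq
      subst eq
      obtain ⟨hq1, hq2⟩ := (S.mem_invs_wJ j).1 hq
      have h3 := mul_le_ht_image hh hνc.mem_weyl hmin hq1 hq2 (by omega)
      exact ⟨⟨(one_le_ht_iff hh _).1 (by omega), Fin.isLt _⟩, h3⟩
    have hen : e ∉ rootGen D F (geSet D C k \ {β.val}) := by
      intro hm1
      have h1 := mem_geImg_of_conj_mem hh hνc.inv heU (by
        rw [he, show ν⁻¹ * (ν * v * ν⁻¹) * ν⁻¹⁻¹ = v by group]; exact hvD.1)
      have h2 := hh.mem_rootGen_inter (fun _ hr => hr.1.1) (fun _ hr => hr.1)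
        (geSet_diff_closed hh hk hki) (geImg_closed hh (inv_mem hνc.mem_weyl) le_rfl) hm1 h1
      have h3 := hνc.inv.conj_rootGen (S' := posSet D \ {D.simple i}) (fun r hr => hr.2.1.2) (fun r hr => ?_) h2
      · refine hvn ?_
        rwa [he, show ν⁻¹ * (ν * v * ν⁻¹) * ν⁻¹⁻¹ = v by group] at h3
      · refine ⟨⟨(one_le_ht_iff hh _).1 (hr.2.2 r.2), Fin.isLt _⟩, fun er => hr.1.2 ?_⟩
        have er' : s⁻¹ r = h.sroot hir := Fin.ext (Set.mem_singleton_iff.1 er)
        rw [Equiv.Perm.inv_def, Equiv.symm_apply_eq] at er'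
        rw [Set.mem_singleton_iff, hβ, er']
    set f := b⁻¹ * e * b⁻¹⁻¹ with hf
    have hfk : f ∈ rootGen D F (geSet D C k) := (borel_conj_geSet hh hk (inv_mem hb.1)).2 hek
    have hfn : f ∉ rootGen D F (geSet D C k \ {β.val}) := fun hm1 =>
      hen ((borel_conj_geSet_diff hh hk hki (inv_mem hb.1)).1 hm1)
    have hfD : InD T m' f := by
      obtain ⟨d, hd, hdv⟩ := (hset v).1 hvD
      refine (hset' f).2 ⟨d, hd, ?_⟩
      rw [hf, he, ← hdv]
      simp only [mul_inv_rev, inv_inv, map_mul, map_inv, hg', hνG, ← hν, mul_assoc]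
    by_contra hcon
    refine hfn (rootGen_mono (T := geSet D C k \ {β.val}) (fun r hr => ⟨hr.1, fun er => hcon ?_⟩)
      (mem_geSet_inter_geImg hh hm' hc' hfD.1 hfD.2.2 (hact' f hfD) hk hfk))
    rw [Set.mem_singleton_iff] at er
    have hr2 := hr.2.2
    subst er
    exact hr2 β.2
  have hpos : ∀ j ∈ A, ∀ i ∈ S.J j, ∀ hir : i < D.rank, D.nroots / 2 ≤ (s (h.sroot hir)).val :=
    fun j hj i hi hir => hsub _ (h.sroot_pos hir) ((h.asc_iff hir).1 (hj i hi))
  -- the image of a fundamental root of an ascending orbit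
  have hexp : ∀ j ∈ A, ∀ i ∈ S.J j, ∀ hir : i < D.rank,
      coef D C i (s (h.sroot hir)).val = 1 ∧
      (∀ l < D.rank, l ≠ i → l ∉ S.J cj → coef D C l (s (h.sroot hir)).val = 0) := by
    intro j hj i hi hir
    have hnc : i ∉ S.J cj := fun hic => hcdesc i hic (hj i hi)
    refine ⟨?_, fun l hl hli hlc => ?_⟩
    · rw [h.coef_eq_of_mem (S.J_lt cj) (S.wJ_mem_weylJ cj) hir hnc]
      show coef D C i (D.simple i) = 1
      rw [(h.simple_tab hir hir).2.1, if_pos rfl]
    · rw [h.coef_eq_of_mem (S.J_lt cj) (S.wJ_mem_weylJ cj) hl hlc]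
      show coef D C l (D.simple i) = 0
      rw [(h.simple_tab hir hl).2.1, if_neg (fun e => hli e.symm)]
  have hmove' : ∀ i ∈ S.J jA, ∀ hir : i < D.rank, s (h.sroot hir) ≠ h.sroot hir := fun i hi hir he =>
    hmove (fix_orbit S (S.wJ_fixW cj) hi hiA (fun _ => he) hiAr)
  have hmin : ∀ j ∈ A, ∃ i ∈ S.J j, ∃ hir : i < D.rank, ∀ a ∈ S.J j, ∀ har : a < D.rank,
      ht D C (s (h.sroot hir)).val ≤ ht D C (s (h.sroot har)).val := by
    intro j _
    obtain ⟨x, hx, hxmin⟩ := Finset.exists_min_image (S.J j).attach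
      (fun a => ht D C (s (h.sroot (Finset.mem_range.1 (S.J_lt j a.2)))).val) (S.J_nonempty j).attach
    exact ⟨x.1, x.2, _, fun a ha har => hxmin ⟨a, ha⟩ (Finset.mem_attach _ _)⟩
  have hsum : ∀ j ∈ A, ∀ i ∈ S.J j, ∀ hir : i < D.rank,
      ht D C (z' (s (h.sroot hir))).val = ht D C (z' (h.sroot hir)).val +
        ∑ l : Fin D.rank, (if l.1 = i then 0 else
          coef D C l.1 (s (h.sroot hir)).val * ht D C (z' (h.sroot l.2)).val) ∧
      ht D C (s (h.sroot hir)).val = 1 +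
        ∑ l : Fin D.rank, (if l.1 = i then 0 else coef D C l.1 (s (h.sroot hir)).val) := by
    intro j hj i hi hir
    have h1 := (hexp j hj i hi hir).1
    constructor
    · rw [ht_lin hh hm'.mem_weyl]
      rw [← Finset.add_sum_erase _ _ (Finset.mem_univ (⟨i, hir⟩ : Fin D.rank)),
        ← Finset.add_sum_erase (f := fun l : Fin D.rank => if l.1 = i then (0 : ℤ) else _) _
          (Finset.mem_univ (⟨i, hir⟩ : Fin D.rank))]
      simp only [h1, one_mul, if_true, zero_add]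
      refine congrArg _ (Finset.sum_congr rfl fun l hl => ?_)
      rw [if_neg fun e => (Finset.mem_erase.1 hl).1 (Fin.ext e)]
    · rw [ht, Finset.sum_range]
      rw [← Finset.add_sum_erase _ _ (Finset.mem_univ (⟨i, hir⟩ : Fin D.rank)),
        ← Finset.add_sum_erase (f := fun l : Fin D.rank => if l.1 = i then (0 : ℤ) else _) _
          (Finset.mem_univ (⟨i, hir⟩ : Fin D.rank))]
      simp only [h1, if_true, zero_add]
      refine congrArg _ (Finset.sum_congr rfl fun l hl => ?_)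
      rw [if_neg fun e => (Finset.mem_erase.1 hl).1 (Fin.ext e)]
  -- the new orbit ascends
  have hcasc : ∀ i ∈ S.J cj, Asc z' i := by
    by_contra hn
    have hdesc : ∀ i ∈ S.J cj, ∀ hir : i < D.rank, ht D C (z' (h.sroot hir)).val ≤ -1 := by
      intro i hi hir
      push Not at hn
      obtain ⟨i', hi', hd'⟩ := hn
      have hneg : ¬ D.nroots / 2 ≤ (z' (h.sroot hir)).val := fun hp =>
        hd' ((S.asc_orbit hz' hi hi').2 ((h.asc_iff hir).2 hp))
      have := h.ht_neg_of_neg (not_le.1 hneg)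
      omega
    obtain ⟨i, hi, hir, himin⟩ := hmin jA hjA
    have hp := hpos jA hjA i hi hir
    have hk := (one_le_ht_iff hh _).2 hp
    have h1 := key jA hjA _ hk i hi hir rfl himin
    obtain ⟨e1, e2⟩ := hsum jA hjA i hi hir
    have h2 : ∑ l : Fin D.rank, (if l.1 = i then (0 : ℤ) else
        coef D C l.1 (s (h.sroot hir)).val * ht D C (z' (h.sroot l.2)).val) ≤
        -∑ l : Fin D.rank, (if l.1 = i then (0 : ℤ) else coef D C l.1 (s (h.sroot hir)).val) := by
      rw [← Finset.sum_neg_distrib]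
      refine Finset.sum_le_sum fun l _ => ?_
      by_cases hl : l.1 = i
      · simp [hl]
      rw [if_neg hl, if_neg hl]
      by_cases hlc : l.1 ∈ S.J cj
      · nlinarith [hdesc l.1 hlc l.2, h.coef_nonneg l.2 (s (h.sroot hir)).2 hp]
      · rw [(hexp jA hjA i hi hir).2 l.1 l.2 hl hlc]; simp
    have h3 : 1 < ht D C (s (h.sroot hir)).val := by
      by_contra hle
      obtain ⟨q, hq, eq⟩ := isSimpleRoot_of_ht hh (r := s (h.sroot hir)) (by omega)
      have h4 := (hexp jA hjA i hi hir).1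
      rw [eq] at h4
      have hqi : q = i := by
        by_contra hne'
        rw [show (h.sroot hq).val = D.simple q from rfl, (h.simple_tab hq hir).2.1, if_neg hne'] at h4
        exact zero_ne_one h4
      subst hqi
      exact hmove' q hi hir eq
    have hasc : ∀ a ∈ S.J jA, Asc z' a := fun a ha =>
      (S.asc_orbit hz' hi ha).2 ((h.asc_iff hir).2 ((one_le_ht_iff hh _).1 (by omega)))
    have h5 := ht_eq_one_of_asc hlead hz' hm' hc' hact' hasc hi hir
    omega
  have hAsub : A ⊆ {j | ∀ i ∈ S.J j, Asc z' i} := by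
    intro j hj a ha
    obtain ⟨i, hi, hir, himin⟩ := hmin j hj
    have hp := hpos j hj i hi hir
    have hk := (one_le_ht_iff hh _).2 hp
    have h1 := key j hj _ hk i hi hir rfl himin
    obtain ⟨e1, e2⟩ := hsum j hj i hi hir
    have h2 : ∑ l : Fin D.rank, (if l.1 = i then (0 : ℤ) else
        coef D C l.1 (s (h.sroot hir)).val * ht D C (z' (h.sroot l.2)).val) =
        ∑ l : Fin D.rank, (if l.1 = i then (0 : ℤ) else coef D C l.1 (s (h.sroot hir)).val) := by
      refine Finset.sum_congr rfl fun l _ => ?_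
      by_cases hl : l.1 = i
      · simp [hl]
      rw [if_neg hl, if_neg hl]
      by_cases hlc : l.1 ∈ S.J cj
      · rw [ht_eq_one_of_asc hlead hz' hm' hc' hact' hcasc hlc l.2, mul_one]
      · rw [(hexp j hj i hi hir).2 l.1 l.2 hl hlc, zero_mul]
    exact (S.asc_orbit hz' hi ha).2 ((h.asc_iff hir).2 ((one_le_ht_iff hh _).1 (by omega)))
  exact ⟨hAsub, fun hrev => hcj (hrev hcasc)⟩

/-- Blocks of a twisted group have defect zero or full defect. -/
theorem zeroOrFull_twisted (hlead : HasLead S) (hadj : Adjacent S) {H : Type*}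
    [Group H] [Finite H] (e : H ≃* ↥S.G) : ZeroOrFull p H := by
  classical
  letI := Fintype.ofFinite ι
  intro M hM B hB
  let φ : H →* GL D.Idx F := S.G.subtype.comp e.toMonoidHom
  have hφ : Function.Injective φ := S.G.subtype_injective.comp e.injective
  have hrange : φ.range = T.fixedGroup := by
    rw [MonoidHom.range_comp, MonoidHom.range_eq_top.2 (show Function.Surjective e.toMonoidHom from e.surjective),
      ← MonoidHom.range_eq_map, Subgroup.range_subtype, S.eq_fixedGroup]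
  have hh := T.hh
  have h := hh.toChecked
  have hMp := Lib.Blocks.isPModular_isPrime hM
  obtain ⟨Dg, hD⟩ := Lib.Blocks.exists_isDefectGroup (p := p) hB
  have hcard := Lib.Blocks.card_defectGroup hM hB hD
  have hDp := Lib.Blocks.isPGroup_of_isDefectGroup hD
  obtain ⟨P0, hP0⟩ := exists_sylow_fixed (p := p) hlead hφ hrange
  have hpow := Nat.pow_right_injective (Fact.out : p.Prime).two_le
  suffices hD' : Dg = ⊥ ∨ Nat.card ↥Dg = Nat.card ↥(P0 : Subgroup H) by
    rcases hD' with hD' | hD'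
    · left
      rw [hD', Subgroup.card_bot, ← pow_zero p] at hcard
      exact (hpow hcard).symm
    · right
      have h1 := P0.card_eq_multiplicity
      rw [← hD', hcard] at h1
      exact hpow h1
  obtain ⟨P, hP⟩ := hDp.exists_le_sylow
  obtain ⟨g0, hg0⟩ := MulAction.exists_smul_eq H P0 P
  obtain ⟨z, m, c, -, -, g, -, hst⟩ := green_step hlead hφ hrange hM hB hD g0 fun d hd => by
    have h1 := hP hd
    rw [← hg0, Sylow.coe_subgroup_smul, Subgroup.mem_smul_pointwise_iff_exists] at h1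
    obtain ⟨s, hs, rfl⟩ := h1
    rw [hP0, Subgroup.mem_comap] at hs
    rwa [MulAut.smul_def, MulAut.conj_apply, show g0⁻¹ * (g0 * s * g0⁻¹) * g0 = s by group]
  induction hn : Fintype.card ι - ({j | ∀ i ∈ S.J j, Asc z i} : Set ι).ncard
    using Nat.strong_induction_on generalizing z m c g with
  | _ n ih =>
    by_cases hz1 : z = 1
    · right
      subst hz1
      have hmd := hst.2.1.diag_of_one
      have hle : (g • P0 : Sylow p H).toSubgroup ≤ Dg := by
        intro y hy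
        rw [Sylow.coe_subgroup_smul, Subgroup.mem_smul_pointwise_iff_exists] at hy
        obtain ⟨s, hs, rfl⟩ := hy
        rw [hP0, Subgroup.mem_comap] at hs
        obtain ⟨d, hd, hds⟩ := (hst.2.2.2.2.2 (φ s)).1 ⟨hs, hrange ▸ MonoidHom.mem_range.2 ⟨s, rfl⟩,
          (Subgroup.mem_normalizer_iff.1 (hh.diagonal_le_normalizer_posUnipotent hmd) _).1 hs⟩
        rw [MulAut.smul_def, MulAut.conj_apply, ← hφ hds, show g * (g⁻¹ * d * g) * g⁻¹ = d by group]
        exact hd
      refine le_antisymm ?_ ?_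
      · obtain ⟨Q, hQ⟩ := hDp.exists_le_sylow
        exact (Subgroup.card_le_of_le hQ).trans_eq
          (by rw [Q.card_eq_multiplicity, P0.card_eq_multiplicity])
      · calc Nat.card ↥(P0 : Subgroup H) = Nat.card ↥(g • P0 : Sylow p H).toSubgroup := by
              rw [(g • P0).card_eq_multiplicity, P0.card_eq_multiplicity]
          _ ≤ _ := Subgroup.card_le_of_le hle
    by_cases hsome : ∃ j, ∀ i ∈ S.J j, Asc z i
    · obtain ⟨z', m', c', g', hst', hss⟩ := exists_more_asc hlead hadj hφ hrange hM hB hD hst hsome hz1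
      refine ih _ ?_ z' m' c' g' hst' rfl
      have h1 := Set.ncard_lt_ncard hss (Set.toFinite _)
      have h2 : ({j | ∀ i ∈ S.J j, Asc z' i} : Set ι).ncard ≤ Fintype.card ι := by
        rw [← Nat.card_eq_fintype_card, ← Set.ncard_univ]
        exact Set.ncard_le_ncard (Set.subset_univ _)
      omega
    · left
      have hall : ∀ i < D.rank, ¬ Asc z i := fun i hi hA => by
        obtain ⟨j, hj⟩ := S.J_cover i hi
        exact hsome ⟨j, fun i' hi' => (S.asc_orbit hst.1 hj hi').2 hA⟩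
      refine (Subgroup.eq_bot_iff_forall _).2 fun d hd => ?_
      have hv := (hst.2.2.2.2.2 _).2 ⟨d, hd, rfl⟩
      have hv1 := mem_geImg_of_conj_mem hh hst.2.1 hv.1 hv.2.2
      have hempty : geImg D C z 1 = ∅ := Set.eq_empty_of_forall_notMem fun r hr =>
        (hh.neg_of_no_asc hst.2.1.mem_weyl hall (r := ⟨r, hr.1.2⟩)).1
          ((one_le_ht_iff hh _).1 (hr.2 hr.1.2)) hr.1.1
      rw [hempty] at hv1
      have hbot : rootGen D F (∅ : Set ℕ) = ⊥ := by
        rw [eq_bot_iff, rootGen, Subgroup.closure_le]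
        rintro x ⟨r, t, hr, -⟩
        exact absurd hr (Set.notMem_empty r)
      rw [hbot, Subgroup.mem_bot, ← map_one φ] at hv1
      have h2 := hφ hv1
      rwa [show g⁻¹ * d * g = g⁻¹ * d * g⁻¹⁻¹ by group, conj_eq_one_iff] at h2

end Cfsg.Agent.Lib.LieDefect
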