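import Cfsg.Agent.Lib.LieDefect.TwistedCore
import Cfsg.Agent.Lib.Twisted.Core.D4Group
import Cfsg.Agent.Lib.Twisted.Core.E6Group
import Cfsg.Agent.Lib.Twisted.Ree.F4Sys

/-!
# Defect groups in `³D₄`, `²E₆` and `²F₄`
-/

set_option autoImplicit false

namespace Cfsg.Agent.Lib.LieDefect

open Cfsg Cfsg.Lie
open Cfsg.Agent.Lib.Chev Cfsg.Agent.Lib.Twisted Cfsg.Agent.Lib.Twisted.Core

variable {D : ChevalleyDatum} {C : Cert} {F : Type*} [Field F] {T : Twist D C F}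

/-- Adjacency of the orbits from a check on the tables. -/
theorem adjacent_of_check {k : ℕ} (S : OrbitSys T (Fin k))
    (hchk : ∀ f : Fin k → Bool, (∃ j, f j = true) → (∃ j, f j = false) →
      ∃ j c, f j = true ∧ f c = false ∧ ∃ i ∈ S.J j, perm C (S.word c) (D.simple i) ≠ D.simple i) :
    Adjacent S := by
  classical
  intro P ⟨a, ha⟩ ⟨b, hb⟩
  obtain ⟨j, c, hj, hc, i, hi, hne⟩ := hchk (fun j => decide (j ∈ P)) ⟨a, by simpa using ha⟩
    ⟨b, by simpa using hb⟩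
  have hir := Finset.mem_range.1 (S.J_lt j hi)
  refine ⟨j, by simpa using hj, c, by simpa using hc, i, hi, hir, fun e => hne ?_⟩
  have := congrArg Fin.val e
  rwa [OrbitSys.wJ, T.hh.toChecked.wperm_val (S.isWord c)] at this

theorem chkAdj_D4 : ∀ f : Fin 2 → Bool, (∃ j, f j = true) → (∃ j, f j = false) →
    ∃ j c, f j = true ∧ f c = false ∧ ∃ i ∈ (d4Orb j).toFinset,
      perm D4.cert (d4Orb c) (chevD4.simple i) ≠ chevD4.simple i := by
  decide +kernel

theorem chkAdj_E6 : ∀ f : Fin 4 → Bool, (∃ j, f j = true) → (∃ j, f j = false) →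
    ∃ j c, f j = true ∧ f c = false ∧ ∃ i ∈ (e6Orb j).toFinset,
      perm E6.cert (e6Orb c) (chevE6.simple i) ≠ chevE6.simple i := by
  decide +kernel

theorem chkAdj_F4 : ∀ f : Fin 2 → Bool, (∃ j, f j = true) → (∃ j, f j = false) →
    ∃ j c, f j = true ∧ f c = false ∧ ∃ i ∈ ReeF.orbJ j,
      perm F4.cert (ReeF.orbs c) (chevF4.simple i) ≠ chevF4.simple i := by
  decide +kernel

variable {p : ℕ} [Fact p.Prime] {G : Type*} [Group G] [Finite G]

theorem zeroOrFull_twistedD4 {K : Type*} [Field K] [Fintype K] [CharP K p] {q : ℕ} (hq : IsPrimePow q)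
    (hK : Fintype.card K = q ^ 3) (e : G ≃* ↥(twistedD4 K q)) : ZeroOrFull p G := by
  obtain ⟨φ, hφ, h3⟩ := d4_powAut hq hK
  exact zeroOrFull_twisted (S := (d4Orbits hq hK φ hφ h3).system) (Orbits.hasLead _)
    (adjacent_of_check _ chkAdj_D4) e

theorem zeroOrFull_twistedE6 {K : Type*} [Field K] [Fintype K] [CharP K p] {q : ℕ} (hq : IsPrimePow q)
    (hK : Fintype.card K = q ^ 2) (e : G ≃* ↥(twistedE6 K q)) : ZeroOrFull p G := by
  obtain ⟨φ, hφ, h2⟩ := e6_powAut hq hK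
  exact zeroOrFull_twisted (S := (e6Orbits hq hK φ hφ h2).system) (Orbits.hasLead _)
    (adjacent_of_check _ chkAdj_E6) e

theorem zeroOrFull_twistedF4 {K : Type*} [Field K] [Fintype K] [CharP K 2] {m : ℕ}
    (hK : Fintype.card K = 2 ^ (2 * m + 1)) (e : G ≃* ↥(twistedF4 K (2 ^ m))) : ZeroOrFull 2 G := by
  haveI : Fact (Nat.Prime 2) := ⟨Nat.prime_two⟩
  obtain ⟨σ, hσ⟩ := ReeF.exists_sigma hK
  exact zeroOrFull_twisted (S := ReeF.orbitSys hσ (ReeF.pow_theta hK)) (ReeF.hasLead hσ (ReeF.pow_theta hK))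
    (adjacent_of_check _ chkAdj_F4) e

end Cfsg.Agent.Lib.LieDefect
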