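import Cfsg.Agent.Lib.LieDefect.Criterion
import Cfsg.Agent.Lib.Twisted.Core.Simple
import Cfsg.Agent.Lib.Chev.ParabolicFStar
import Cfsg.Agent.Lib.Chev.BorelTits

/-!
Height filtrations of the unipotent group under monomial elements, and the leading elements of the orbits of a
twisted group.
-/

set_option autoImplicit false

namespace Cfsg.Agent.Lib.LieDefect

open Cfsg Cfsg.Lie
open Cfsg.Agent.Lib.Chev Cfsg.Agent.Lib.Twisted.Core

variable {D : ChevalleyDatum} {C : Cert} {F : Type*} [Field F]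

/-- The positive roots of height at least `k`. -/
def geSet (D : ChevalleyDatum) (C : Cert) (k : ℤ) : Set ℕ := {r | r ∈ posSet D ∧ k ≤ ht D C r}

/-- The positive roots sent by `z` to roots of height at least `k`. -/
def geImg (D : ChevalleyDatum) (C : Cert) (z : Equiv.Perm (Fin D.nroots)) (k : ℤ) : Set ℕ :=
  {r | r ∈ posSet D ∧ ∀ hr : r < D.nroots, k ≤ ht D C (z ⟨r, hr⟩).val}

section checked

variable (hh : Rooted D C)
include hh

theorem ht_lin {z : Equiv.Perm (Fin D.nroots)} (hz : z ∈ weyl hh.toChecked (Finset.range D.rank))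
    (r : Fin D.nroots) : ht D C (z r).val =
      ∑ l : Fin D.rank, coef D C l.1 r.val * ht D C (z (hh.toChecked.sroot l.2)).val := by
  have := hh.toChecked.btLin_comp hh.toChecked.btLin_ht hz r
  simp only at this
  exact_mod_cast this

theorem one_le_ht_iff (r : Fin D.nroots) : 1 ≤ ht D C r.val ↔ D.nroots / 2 ≤ r.val :=
  ⟨fun h1 => by
    by_contra hn
    have := hh.toChecked.ht_neg_of_neg (not_le.1 hn)
    omega, fun hp => hh.toChecked.ht_pos r.2 hp⟩

theorem geSet_closed {k : ℤ} (hk : 1 ≤ k) : ClosedSet D C (geSet D C k) := by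
  intro r hr s hs _ _ c hc
  obtain ⟨-, hi, -, hφ⟩ := hh.toChecked.cTerms_spec hr.1.2 hs.1.2 c hc
  refine ⟨(hh.toChecked.cTerms_pos hr.1 hs.1 hc).1, ?_⟩
  rw [hφ _ hh.toChecked.isAdd_ht]
  have h1 : k ≤ (c.2.2.1 : ℤ) * ht D C r := by
    have : (1 : ℤ) ≤ c.2.2.1 := by exact_mod_cast hi
    nlinarith [hr.2]
  have h2 : 0 ≤ (c.2.2.2 : ℤ) * ht D C s := mul_nonneg (Int.natCast_nonneg _) (by linarith [hs.2])
  linarith

theorem geSet_diff_closed {k : ℤ} (hk : 1 ≤ k) {b : ℕ} (hb : ht D C b = k) :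
    ClosedSet D C (geSet D C k \ {b}) := by
  intro r hr s hs h1 h2 c hc
  refine ⟨geSet_closed hh hk r hr.1 s hs.1 h1 h2 c hc, fun hcb => ?_⟩
  obtain ⟨-, hi, hj, hφ⟩ := hh.toChecked.cTerms_spec hr.1.1.2 hs.1.1.2 c hc
  have e := hφ _ hh.toChecked.isAdd_ht
  rw [Set.mem_singleton_iff] at hcb
  rw [hcb, hb] at e
  have h1 : (1 : ℤ) ≤ c.2.2.1 := by exact_mod_cast hi
  have h2 : (1 : ℤ) ≤ c.2.2.2 := by exact_mod_cast hj
  nlinarith [hr.1.2, hs.1.2]

theorem geSet_up {k : ℤ} (hk : 1 ≤ k) {r s : ℕ} (hr : r ∈ posSet D) (hs : s ∈ geSet D C k)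
    {c : ℕ × ℤ × ℕ × ℕ} (hc : c ∈ cTerms C r s) : c.1 ∈ posSet D ∧ k < ht D C c.1 := by
  obtain ⟨-, hi, hj, hφ⟩ := hh.toChecked.cTerms_spec hr.2 hs.1.2 c hc
  refine ⟨(hh.toChecked.cTerms_pos hr hs.1 hc).1, ?_⟩
  rw [hφ _ hh.toChecked.isAdd_ht]
  have h1 : (1 : ℤ) ≤ c.2.2.1 := by exact_mod_cast hi
  have h2 : (1 : ℤ) ≤ c.2.2.2 := by exact_mod_cast hj
  have h3 := hh.toChecked.ht_pos hr.2 hr.1
  nlinarith [hs.2]

theorem borel_conj_geSet {k : ℤ} (hk : 1 ≤ k) {b v : GL D.Idx F} (hb : b ∈ D.borelSubgroup F) :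
    b * v * b⁻¹ ∈ rootGen D F (geSet D C k) ↔ v ∈ rootGen D F (geSet D C k) :=
  ((Subgroup.mem_normalizer_iff.1 (hh.borel_le_normalizer_of_up (F := F) (S := geSet D C k) (fun _ hr => hr.1)
    (fun _ hr _ hs _ hc => ⟨(geSet_up hh hk hr hs hc).1, (geSet_up hh hk hr hs hc).2.le⟩) hb)) v).symm

theorem borel_conj_geSet_diff {k : ℤ} (hk : 1 ≤ k) {β : ℕ} (hβ : ht D C β = k) {b v : GL D.Idx F}
    (hb : b ∈ D.borelSubgroup F) :
    b * v * b⁻¹ ∈ rootGen D F (geSet D C k \ {β}) ↔ v ∈ rootGen D F (geSet D C k \ {β}) :=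
  ((Subgroup.mem_normalizer_iff.1 (hh.borel_le_normalizer_of_up (F := F) (S := geSet D C k \ {β}) (fun _ hr => hr.1.1)
    (fun _ hr _ hs _ hc => ⟨⟨(geSet_up hh hk hr hs.1 hc).1, (geSet_up hh hk hr hs.1 hc).2.le⟩, fun e => by
      have h1 := (geSet_up hh hk hr hs.1 hc).2
      rw [Set.mem_singleton_iff.1 e, hβ] at h1
      exact lt_irrefl _ h1⟩) hb)) v).symm

theorem geImg_closed {z : Equiv.Perm (Fin D.nroots)} (hz : z ∈ weyl hh.toChecked (Finset.range D.rank))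
    {k : ℤ} (hk : 1 ≤ k) : ClosedSet D C (geImg D C z k) := by
  intro r hr s hs _ _ c hc
  obtain ⟨hlt, hi, -, hφ⟩ := hh.toChecked.cTerms_spec hr.1.2 hs.1.2 c hc
  refine ⟨(hh.toChecked.cTerms_pos hr.1 hs.1 hc).1, fun hlt' => ?_⟩
  obtain ⟨L, hL, rfl⟩ := hh.toChecked.exists_word_of_weyl hz
  obtain ⟨φ, hadd, e⟩ := hh.toChecked.isAdd_perm_ht hL
  rw [hh.toChecked.wperm_val hL, ← e _ hlt', hφ φ hadd, e _ hr.1.2, e _ hs.1.2]
  have h1 := hr.2 hr.1.2
  have h2 := hs.2 hs.1.2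
  rw [hh.toChecked.wperm_val hL] at h1 h2
  simp only at h1 h2
  have h3 : k ≤ (c.2.2.1 : ℤ) * ht D C (perm C L r) := by
    have : (1 : ℤ) ≤ c.2.2.1 := by exact_mod_cast hi
    nlinarith
  have h4 : 0 ≤ (c.2.2.2 : ℤ) * ht D C (perm C L s) := mul_nonneg (Int.natCast_nonneg _) (by linarith)
  linarith

set_option maxHeartbeats 800000 in
/-- An element of `U` sent into `U` by a monomial element only involves roots sent to positive roots. -/
theorem mem_geImg_of_conj_mem {z : Equiv.Perm (Fin D.nroots)} {m : GL D.Idx F} (hm : Cls hh z m)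
    {v : GL D.Idx F} (hv : v ∈ D.posUnipotent F) (hmv : m * v * m⁻¹ ∈ D.posUnipotent F) :
    v ∈ rootGen D F (geImg D C z 1) := by
  have h := hh.toChecked
  obtain ⟨a, ha, b, hb, e⟩ := h.exists_split {r | ∀ hr : r < D.nroots, ¬ D.nroots / 2 ≤ (z ⟨r, hr⟩).val} hv
  have ha' : a ∈ rootGen D F (geImg D C z 1) := by
    refine rootGen_mono (T := geImg D C z 1) (fun r hr => ⟨hr.1, fun hlt => (one_le_ht_iff hh _).2 ?_⟩) ha
    have := hr.2
    simp only [Set.mem_setOf_eq, not_forall, not_not] at this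
    exact this.2
  have hma : m * a * m⁻¹ ∈ D.posUnipotent F := by
    rw [h.posUnipotent_eq]
    exact hm.conj_rootGen (S' := posSet D) (fun r hr => hr.1.2)
      (fun r hr => ⟨(one_le_ht_iff hh _).1 (hr.2 r.2), Fin.isLt _⟩) ha'
  have hb1 : m * b * m⁻¹ ∈ D.borelSubgroup F := by
    have e2 : m * b * m⁻¹ = (m * a * m⁻¹)⁻¹ * (m * v * m⁻¹) := by rw [e]; group
    rw [e2]
    exact Subgroup.mem_sup_left (mul_mem (inv_mem hma) hmv)
  have hb2 : m * b * m⁻¹ ∈ D.negUnipotent F := by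
    rw [h.negUnipotent_eq]
    exact hm.conj_rootGen (S' := negSet D) (fun r hr => hr.1.2) (fun r hr => not_le.1 (hr.2 r.2)) hb
  have : b = 1 := conj_eq_one_iff.1 (Subgroup.mem_bot.1 (hh.borel_inf_negUnipotent.le
    (Subgroup.mem_inf.2 ⟨hb1, hb2⟩)))
  rw [e, this, mul_one]
  exact ha'

/-- The leading term lemma: if `z` acts on `v` like an element of `B`, the lowest terms of `v` go to roots of
at least their height. -/
theorem mem_geSet_inter_geImg {z : Equiv.Perm (Fin D.nroots)} {m c : GL D.Idx F} (hm : Cls hh z m)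
    (hc : c ∈ D.borelSubgroup F) {v : GL D.Idx F} (hv : v ∈ D.posUnipotent F)
    (hmv : m * v * m⁻¹ ∈ D.posUnipotent F) (he : m * v * m⁻¹ = c * v * c⁻¹) {k : ℤ} (hk : 1 ≤ k)
    (hvk : v ∈ rootGen D F (geSet D C k)) : v ∈ rootGen D F (geSet D C k ∩ geImg D C z k) := by
  have h := hh.toChecked
  have hyk : m * v * m⁻¹ ∈ rootGen D F (geSet D C k) := by
    rw [he, borel_conj_geSet hh hk hc]; exact hvk
  have hy1 : m * v * m⁻¹ ∈ rootGen D F (geImg D C z⁻¹ 1) :=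
    mem_geImg_of_conj_mem hh hm.inv hmv (by simpa [mul_assoc] using hv)
  have hy := hh.mem_rootGen_inter (fun _ hr => hr.1) (fun _ hr => hr.1) (geSet_closed hh hk)
    (geImg_closed hh (inv_mem hm.mem_weyl) le_rfl) hyk hy1
  have hv2 : v ∈ rootGen D F (geImg D C z k) := by
    have := hm.inv.conj_rootGen (S' := geImg D C z k) (fun r hr => hr.1.1.2) (fun r hr => ?_) hy
    · simpa [mul_assoc] using this
    · refine ⟨⟨(one_le_ht_iff hh _).1 (hr.2.2 r.2), Fin.isLt _⟩, fun hlt => ?_⟩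
      rw [show (⟨(z⁻¹ r).val, hlt⟩ : Fin D.nroots) = z⁻¹ r from rfl, Equiv.Perm.inv_def,
        Equiv.apply_symm_apply]
      exact hr.1.2
  exact hh.mem_rootGen_inter (fun _ hr => hr.1) (fun _ hr => hr.1) (geSet_closed hh hk)
    (geImg_closed hh hm.mem_weyl hk) hvk hv2

end checked

/-! ### Leading elements -/

variable {T : Twist D C F} {ι : Type} {S : OrbitSys T ι}

/-- Each orbit group has a fixed element involving each of its fundamental roots. -/
theorem exists_leading [Fintype F] (hlead : HasLead S) (j : ι) {i : ℕ} (hi : i ∈ S.J j) :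
    ∃ v ∈ Twist.uGrp D F (S.wJ j) ⊓ T.fixedGroup, v ∉ rootGen D F (posSet D \ {D.simple i}) := by
  have hh := T.hh
  have h := hh.toChecked
  have hir := Finset.mem_range.1 (S.J_lt j hi)
  obtain ⟨t, ht0, a, ha, hy⟩ := hlead i hir
  set y := xGL h F (h.simple_lt hir) t * a with hydef
  have hp : D.simple i ∈ posSet D := ⟨(h.simple_spec hir).2, h.simple_lt hir⟩
  have hyU : y ∈ D.posUnipotent F := by
    rw [h.posUnipotent_eq]
    exact mul_mem (mem_rootGen hp rfl) (rootGen_mono Set.sdiff_subset ha)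
  have hyni : y ∉ rootGen D F (posSet D \ {D.simple i}) := fun hm =>
    ht0 (OrbitSys.not_mem_simple_sdiff hh hir (by simpa [hydef] using mul_mem hm (inv_mem ha)))
  set A : Set ℕ := Fin.val '' (invs (S.wJ j) : Set (Fin D.nroots)) with hA
  obtain ⟨u, hu, v, hv, e⟩ := h.exists_split A hyU
  have hpiA : D.simple i ∈ A :=
    ⟨h.sroot hir, (S.mem_invs_wJ j).2 ⟨h.sroot_pos hir, h.supp_simple hir hi⟩, rfl⟩
  have hu' : u ∈ rootGen D F (posSet D \ {D.simple i}) :=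
    rootGen_mono (T := posSet D \ {D.simple i}) (fun r hr => ⟨hr.1, fun er => hr.2 ((Set.mem_singleton_iff.1 er).symm ▸ hpiA)⟩) hu
  have hvA : v ∈ Twist.uGrp D F (S.wJ j) := rootGen_mono Set.inter_subset_right hv
  have hvni : v ∉ rootGen D F (posSet D \ {D.simple i}) := fun hm => hyni (by rw [e]; exact mul_mem hu' hm)
  obtain ⟨s, -, hs⟩ := S.exists_rep j
  have hyf := S.G_le hy
  have hposA : ∀ r : Fin D.nroots, r.val ∈ posSet D \ A → D.nroots / 2 ≤ (S.wJ j r).val := fun r hr => by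
    by_contra hn
    exact hr.2 ⟨r, h.mem_invs.2 ⟨hr.1.1, hn⟩, rfl⟩
  have hsu : T.sig u ∈ rootGen D F (posSet D \ A) := by
    refine T.sig_rootGen (S' := posSet D \ A) (fun r hr => hr.1.2) (fun r hr => ⟨⟨(T.rho_pos r).2 hr.1.1, Fin.isLt _⟩, ?_⟩) hu
    rintro ⟨q, hq, eq⟩
    rw [Fin.val_inj] at eq
    subst eq
    exact hr.2 ⟨r, ((S.wJ_fixW j).mem_invs r).1 hq, rfl⟩
  have hsv : T.sig v ∈ Twist.uGrp D F (S.wJ j) := OrbitSys.sig_uGrp_fix (S.wJ_fixW j) hvA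
  have huG : u ∈ D.group F := rootGen_le_group (fun r hr => hr.1.2) hu
  have hvG : v ∈ D.group F := uGrp_le_group hh _ hvA
  have e' : y = T.sig u * T.sig v := by
    conv_lhs => rw [← T.sig_fixed hyf, e, T.sig_mul huG hvG]
  have hx : (T.sig u)⁻¹ * u = T.sig v * v⁻¹ := by
    calc (T.sig u)⁻¹ * u = (T.sig u)⁻¹ * y * v⁻¹ := by rw [e]; group
      _ = _ := by rw [e']; group
  set x := T.sig v * v⁻¹
  have hx1 : s * x * s⁻¹ ∈ D.borelSubgroup F := by
    refine Subgroup.mem_sup_left ?_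
    rw [h.posUnipotent_eq, ← hx]
    exact hs.conj_rootGen (S' := posSet D) (fun r hr => hr.1.2) (fun r hr => ⟨hposA r hr, Fin.isLt _⟩)
      (mul_mem (inv_mem hsu) hu)
  have hx2 : s * x * s⁻¹ ∈ D.negUnipotent F := by
    rw [h.negUnipotent_eq]
    refine hs.conj_rootGen (S' := negSet D) (fun r hr => by obtain ⟨q, -, rfl⟩ := hr; exact q.2) (fun r hr => ?_)
      (mul_mem hsv (inv_mem hvA))
    obtain ⟨q, hq, eq⟩ := hr
    rw [Fin.val_inj] at eq
    subst eq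
    exact not_le.1 (h.mem_invs.1 hq).2
  have hx0 : x = 1 := conj_eq_one_iff.1 (Subgroup.mem_bot.1 (hh.borel_inf_negUnipotent.le
    (Subgroup.mem_inf.2 ⟨hx1, hx2⟩)))
  exact ⟨v, ⟨hvA, T.mem_fixedGroup.2 ⟨hvG, mul_inv_eq_one.1 hx0⟩⟩, hvni⟩

end Cfsg.Agent.Lib.LieDefect
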